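import Groth.Agent.L27.PuncExtend.Clopen
import Groth.Agent.L05.Henselization.Strict
import Mathlib.AlgebraicGeometry.Morphisms.QuasiFinite
import Mathlib.AlgebraicGeometry.Properties

/-! Clopens over a dense open extend when the strictly henselian punctured spectra are connected. -/

set_option autoImplicit false
set_option linter.style.haveILetI false
set_option backward.isDefEq.respectTransparency.types false

universe u

open CategoryTheory CategoryTheory.Limits AlgebraicGeometry TopologicalSpace IsLocalRing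

namespace Groth.L27.PuncExtend

variable {X : Scheme.{u}}

theorem dense_etale (U : X.Opens) (hU : Dense (U : Set X)) (R : Scheme.{u}) (r : R ⟶ X) (hr : Etale r)
    (O : R.Opens) (hO : (O : Set R).Nonempty) : ∃ x ∈ O, r x ∈ U := by
  obtain ⟨_, ⟨x, hx, rfl⟩, hxU⟩ := hU.inter_open_nonempty _ (r.isOpenMap _ O.isOpen) (hO.image r)
  exact ⟨x, hx, hxU⟩

theorem flat_fromSpecStalk (x : X) : Flat (X.fromSpecStalk x) := by
  obtain ⟨U, hU, hxU, -⟩ := exists_isAffineOpen_mem_and_subset (X := X) (x := x) (U := ⊤) trivial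
  rw [← hU.fromSpecStalk_eq_fromSpecStalk hxU, IsAffineOpen.fromSpecStalk]
  haveI : Flat (Spec.map (X.presheaf.germ U x hxU)) := by
    refine (HasRingHomProperty.Spec_iff (P := @Flat)).mpr ?_
    letI := X.presheaf.algebra_section_stalk ⟨x, hxU⟩
    haveI := hU.isLocalization_stalk ⟨x, hxU⟩
    exact RingHom.flat_algebraMap_iff.mpr
      (IsLocalization.flat _ (hU.primeIdealOf ⟨x, hxU⟩).asIdeal.primeCompl)
  infer_instance

/-- a flat map from the strict henselization hitting a point of an affine etale neighbourhood -/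
theorem exists_flat_point_scheme {V : Scheme.{u}} [IsAffine V] {X₀ : Scheme.{u}} [IsAffine X₀] (j : X₀ ⟶ X)
    [IsOpenImmersion j] (r₀ : V ⟶ X₀) (r : V ⟶ X) [Etale r] (hr : r₀ ≫ j = r) (t : V)
    {x : X} (hx : r t = x)
    (R : Type u) [CommRing R] [IsLocalRing R] [Algebra (X.presheaf.stalk x) R]
    [IsLocalHom (algebraMap (X.presheaf.stalk x) R)] [Hensel.IsStrictHenselization (X.presheaf.stalk x) R] :
    ∃ φ : Spec (CommRingCat.of R) ⟶ V, Flat φ ∧
      φ ≫ r = Spec.map (CommRingCat.ofHom (algebraMap (X.presheaf.stalk x) R)) ≫ X.fromSpecStalk x ∧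
      φ (closedPoint R) = t := by
  let A := X.presheaf.stalk x
  let sx : Spec (CommRingCat.of A) ⟶ X := X.fromSpecStalk x
  have hxj : Set.range sx ⊆ Set.range j := by
    intro y hy
    have hy' : y ⤳ x := (Scheme.range_fromSpecStalk (x := x)).le hy
    refine j.isOpenEmbedding.isOpen_range.stableUnderGeneralization hy' ?_
    exact ⟨r₀ t, by rw [← Scheme.Hom.comp_apply, hr, hx]⟩
  let fx := IsOpenImmersion.lift j sx hxj
  haveI : Etale (r₀ ≫ j) := hr.symm ▸ inferInstance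
  haveI : Etale r₀ := Etale.of_comp r₀ j
  let V' := pullback r₀ fx
  have hfx : fx ≫ j = sx := IsOpenImmersion.lift_fac _ _ _
  obtain ⟨t', ht1, ht2⟩ := Scheme.Pullback.exists_preimage_pullback (f := r₀) (g := fx) t (closedPoint A) (by
    apply j.isOpenEmbedding.injective
    rw [← Scheme.Hom.comp_apply, hr, hx, ← Scheme.Hom.comp_apply, hfx]
    exact (Scheme.fromSpecStalk_closedPoint (x := x)).symm)
  obtain ⟨φ, hφf, hφ, hφt⟩ := exists_flat_point R (pullback.snd r₀ fx) t' ht2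
  have heq : (φ ≫ pullback.fst r₀ fx) ≫ r =
      Spec.map (CommRingCat.ofHom (algebraMap A R)) ≫ sx := by
    rw [← hr, ← Category.assoc, Category.assoc φ, pullback.condition, ← Category.assoc, hφ, Category.assoc, hfx]
  refine ⟨φ ≫ pullback.fst r₀ fx, ?_, heq, ?_⟩
  · haveI : Flat ((φ ≫ pullback.fst r₀ fx) ≫ r) := by
      rw [heq]
      haveI : Flat sx := flat_fromSpecStalk x
      haveI : Flat (Spec.map (CommRingCat.ofHom (algebraMap A R))) :=
        Flat.SpecMap_iff.2 (RingHom.flat_algebraMap_iff.2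
          (Groth.L05.Henselization.flat_of_isStrictHenselization A R))
      infer_instance
    exact Groth.L21.Nodal.flat_of_comp_etale _ r
  · rw [Scheme.Hom.comp_apply, hφt, ht1]

/-- closures of clopens over `U` stay disjoint -/
theorem exists_clopen_extension (U : X.Opens) (hU : Dense (U : Set X))
    (hsh : ∀ x : X, x ∉ U → ∀ (R : Type u) [CommRing R] [IsLocalRing R] [Algebra (X.presheaf.stalk x) R]
      [IsLocalHom (algebraMap (X.presheaf.stalk x) R)] [Hensel.IsStrictHenselization (X.presheaf.stalk x) R],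
      ConnectedSpace (FEt.puncturedSpec R : Scheme.{u}))
    (hgen : ∀ (V : Scheme.{u}) (r : V ⟶ X), Etale r → ∀ C C' : V.Opens, C ⊔ C' = r ⁻¹ᵁ U → C ⊓ C' = ⊥ →
      ∀ t ∈ closure (C : Set V), ∃ c ∈ C, c ⤳ t)
    (V : Scheme.{u}) (r : V ⟶ X) [Etale r] (C C' : V.Opens) (hsup : C ⊔ C' = r ⁻¹ᵁ U) (hinf : C ⊓ C' = ⊥) :
    ∃ D : Set V, IsClopen D ∧ D ∩ (r ⁻¹ᵁ U : Set V) = C := by
  have hdisj : Disjoint (C : Set V) C' :=
    Set.disjoint_iff_inter_eq_empty.2 (congrArg (fun o : V.Opens => (o : Set V)) hinf)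
  have hunion : (C : Set V) ∪ C' = r ⁻¹' U := congrArg (fun o : V.Opens => (o : Set V)) hsup
  have hUmem : ∀ y ∈ closure (C : Set V) ∩ closure (C' : Set V), r y ∉ U := by
    intro y hy hyU
    rcases (hunion.ge hyU : y ∈ (C : Set V) ∪ C') with h | h
    · obtain ⟨z, h1, h2⟩ := mem_closure_iff.1 hy.2 _ C.isOpen h
      exact Set.disjoint_left.1 hdisj h1 h2
    · obtain ⟨z, h1, h2⟩ := mem_closure_iff.1 hy.1 _ C'.isOpen h
      exact Set.disjoint_left.1 hdisj h2 h1
  have hcover : closure (C : Set V) ∪ closure (C' : Set V) = Set.univ := by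
    by_contra h
    obtain ⟨x, hx⟩ := (Set.ne_univ_iff_exists_notMem _).1 h
    obtain ⟨y, hy, hyU⟩ := dense_etale U hU V r inferInstance
      ⟨_, (isClosed_closure.union isClosed_closure).isOpen_compl⟩ ⟨x, hx⟩
    rcases (hunion.ge hyU : y ∈ (C : Set V) ∪ C') with h' | h'
    · exact hy (Or.inl (subset_closure h'))
    · exact hy (Or.inr (subset_closure h'))
  have hdisjc : ∀ t, t ∈ closure (C : Set V) → t ∈ closure (C' : Set V) → False := by
    intro t₁ ht₁ ht₁'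
    obtain ⟨X₀, hX₀, hxX₀, -⟩ := exists_isAffineOpen_mem_and_subset (X := X) (x := r t₁) (U := ⊤) trivial
    obtain ⟨V₀, hV₀, htV₀, hV₀le⟩ := exists_isAffineOpen_mem_and_subset (X := V) (x := t₁) (U := r ⁻¹ᵁ X₀) hxX₀
    let h : (V₀ : Scheme.{u}) ≃ₜ PrimeSpectrum Γ(V₀, ⊤) :=
      haveI : IsAffine (V₀ : Scheme.{u}) := hV₀
      Scheme.homeoOfIso (V₀ : Scheme.{u}).isoSpec
    let Z : Set (V₀ : Scheme.{u}) := V₀.ι ⁻¹' (closure (C : Set V) ∩ closure (C' : Set V))
    have hZ : IsClosed (h '' Z) := h.isClosedMap _ ((isClosed_closure.inter isClosed_closure).preimage V₀.ι.continuous)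
    obtain ⟨I, hI⟩ := (PrimeSpectrum.isClosed_iff_zeroLocus_ideal _).1 hZ
    have hmem : I ≤ (h ⟨t₁, htV₀⟩).asIdeal := hI.le ⟨⟨t₁, htV₀⟩, ⟨ht₁, ht₁'⟩, rfl⟩
    obtain ⟨q, hq, hq'⟩ := Ideal.exists_minimalPrimes_le hmem
    obtain ⟨t₀, ht₀Z, ht₀q⟩ : (⟨q, hq.1.1⟩ : PrimeSpectrum _) ∈ h '' Z := hI.ge hq.1.2
    have hmin : ∀ c : (V₀ : Scheme.{u}), c ∈ Z → c ⤳ t₀ → t₀ ⤳ c := by
      intro c hc hct
      have h1 : (h c) ≤ h t₀ := (PrimeSpectrum.le_iff_specializes _ _).2 (hct.map h.continuous)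
      have h2 : q ≤ (h c).asIdeal := hq.2 ⟨(h c).2, hI.le ⟨c, hc, rfl⟩⟩ (le_of_le_of_eq h1 (congrArg PrimeSpectrum.asIdeal ht₀q))
      have h3 : h t₀ ≤ h c := le_of_eq_of_le ht₀q h2
      exact h.isInducing.specializes_iff.1 ((PrimeSpectrum.le_iff_specializes _ _).1 h3)
    let r' : (V₀ : Scheme.{u}) ⟶ X := V₀.ι ≫ r
    have hr0U : r' t₀ ∉ U := hUmem _ ht₀Z
    obtain ⟨R, _, _, _, _, _⟩ := Groth.L05.Henselization.exists_isStrictHenselization (X.presheaf.stalk (r' t₀))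
    haveI := hsh _ hr0U R
    haveI : IsAffine (X₀ : Scheme.{u}) := hX₀
    haveI : IsAffine (V₀ : Scheme.{u}) := hV₀
    obtain ⟨φ, hφf, hφ, hφt⟩ := exists_flat_point_scheme (V := (V₀ : Scheme.{u})) X₀.ι
      (r.resLE X₀ V₀ hV₀le) r' (Scheme.Hom.resLE_comp_ι _ _) t₀ rfl R
    have hclosed : ∀ z, φ z = t₀ → z = closedPoint R := by
      intro z hz
      have h1 : X.fromSpecStalk (r' t₀) (Spec.map (CommRingCat.ofHom (algebraMap (X.presheaf.stalk (r' t₀)) R)) z) =
          X.fromSpecStalk (r' t₀) (closedPoint (X.presheaf.stalk (r' t₀))) := by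
        rw [← Scheme.Hom.comp_apply, ← hφ, Scheme.Hom.comp_apply, hz, Scheme.fromSpecStalk_closedPoint]
      have h2 : z.asIdeal.comap (algebraMap (X.presheaf.stalk (r' t₀)) R) = maximalIdeal _ :=
        congrArg PrimeSpectrum.asIdeal ((X.fromSpecStalk (r' t₀)).isEmbedding.injective h1)
      have h3 : maximalIdeal R ≤ z.asIdeal := by
        rw [← Groth.L05.Henselization.map_maximalIdeal_of_isStrictHenselization (X.presheaf.stalk (r' t₀)) R]
        exact Ideal.map_le_iff_le_comap.2 h2.ge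
      exact PrimeSpectrum.ext ((maximalIdeal.isMaximal R).eq_of_le z.2.ne_top h3).symm
    let ρ : (FEt.puncturedSpec R : Scheme.{u}) ⟶ V := (FEt.puncturedSpec R).ι ≫ φ ≫ V₀.ι
    have hhit : ∀ D D' : V.Opens, D ⊔ D' = r ⁻¹ᵁ U → D ⊓ D' = ⊥ → V₀.ι t₀ ∈ closure (D : Set V) →
        ∃ z, ρ z ∈ (D : Set V) := by
      intro D D' h1 h2 h3
      obtain ⟨c, hc, hct⟩ := hgen V r inferInstance D D' h1 h2 _ h3
      obtain ⟨c₀, rfl⟩ : c ∈ Set.range V₀.ι := by
        rw [Scheme.Opens.range_ι]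
        exact V₀.isOpen.stableUnderGeneralization hct t₀.2
      have hct' : c₀ ⤳ φ (closedPoint R) := by
        rw [hφt]; exact V₀.ι.isOpenEmbedding.isInducing.specializes_iff.1 hct
      obtain ⟨z, -, hz⟩ := Flat.generalizingMap φ hct'
      have hne : z ≠ closedPoint R := fun he => by
        apply hr0U
        have hcU : r (V₀.ι c₀) ∈ U := (congrArg (fun o : V.Opens => (o : Set V)) h1).le (Or.inl hc)
        have : c₀ = t₀ := by rw [← hz, he, hφt]
        rw [← this]; exact hcU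
      exact ⟨⟨z, hne⟩, show V₀.ι (φ z) ∈ (D : Set V) by rw [hz]; exact hc⟩
    obtain ⟨z₁, hz₁⟩ := hhit C C' hsup hinf ht₀Z.1
    obtain ⟨z₂, hz₂⟩ := hhit C' C (by rw [sup_comm]; exact hsup) (by rw [inf_comm]; exact hinf) ht₀Z.2
    obtain ⟨z, -, hz, hz'⟩ := isPreconnected_closed_iff.1 (isPreconnected_univ (α := (FEt.puncturedSpec R : Scheme.{u})))
      (ρ ⁻¹' closure (C : Set V)) (ρ ⁻¹' closure (C' : Set V))
      (isClosed_closure.preimage ρ.continuous) (isClosed_closure.preimage ρ.continuous)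
      (fun z _ => (hcover.ge (Set.mem_univ (ρ z)) : ρ z ∈ closure (C : Set V) ∪ closure (C' : Set V)))
      ⟨z₁, trivial, subset_closure hz₁⟩ ⟨z₂, trivial, subset_closure hz₂⟩
    have hle : φ z.1 ⤳ t₀ := hφt ▸ (IsLocalRing.specializes_closedPoint z.1).map φ.continuous
    have heq : φ z.1 = t₀ := ((hmin (φ z.1) ⟨hz, hz'⟩ hle).antisymm hle).eq.symm
    exact z.2 (hclosed _ heq)
  refine ⟨closure (C : Set V), ⟨isClosed_closure, ?_⟩, ?_⟩
  · have : closure (C : Set V) = (closure (C' : Set V))ᶜ := by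
      refine Set.Subset.antisymm (fun t ht ht' => hdisjc t ht ht') fun t ht => ?_
      exact ((hcover.ge (Set.mem_univ t) : t ∈ closure (C : Set V) ∪ closure (C' : Set V))).resolve_right ht
    rw [this]
    exact isClosed_closure.isOpen_compl
  · refine Set.Subset.antisymm (fun x hx => ?_) fun x hx => ⟨subset_closure hx, hunion.le (Or.inl hx)⟩
    rcases (hunion.ge hx.2 : x ∈ (C : Set V) ∪ C') with h | h
    · exact h
    · exact (hdisjc x hx.1 (subset_closure h)).elim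

theorem hgen_of_quasiCompact (U : X.Opens) [QuasiCompact U.ι] (V : Scheme.{u}) (r : V ⟶ X) (_ : Etale r)
    (C C' : V.Opens) (hsup : C ⊔ C' = r ⁻¹ᵁ U) (hinf : C ⊓ C' = ⊥) (t : V) (ht : t ∈ closure (C : Set V)) :
    ∃ c ∈ C, c ⤳ t := by
  obtain ⟨V₀, hV₀, htV₀, -⟩ := exists_isAffineOpen_mem_and_subset (X := V) (x := t) (U := ⊤) trivial
  haveI : IsAffine (V₀ : Scheme.{u}) := hV₀
  have hcpt : IsCompact ((V₀.ι ≫ r) ⁻¹' (U : Set X)) := by
    have : (V₀.ι ≫ r) ⁻¹' (U : Set X) = Set.range (pullback.fst (V₀.ι ≫ r) U.ι) := by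
      rw [Scheme.Pullback.range_fst, Scheme.Opens.range_ι]
    rw [this]
    exact isCompact_range (pullback.fst (V₀.ι ≫ r) U.ι).continuous
  have hdisj : Disjoint (C : Set V) C' :=
    Set.disjoint_iff_inter_eq_empty.2 (congrArg (fun o : V.Opens => (o : Set V)) hinf)
  have hunion : (C : Set V) ∪ C' = r ⁻¹' U := congrArg (fun o : V.Opens => (o : Set V)) hsup
  let h : (V₀ : Scheme.{u}) ≃ₜ PrimeSpectrum Γ(V₀, ⊤) := Scheme.homeoOfIso (V₀ : Scheme.{u}).isoSpec
  have hC₀ : IsCompact (V₀.ι ⁻¹' (C : Set V)) := by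
    have : V₀.ι ⁻¹' (C : Set V) = (V₀.ι ≫ r) ⁻¹' (U : Set X) \ V₀.ι ⁻¹' (C' : Set V) := by
      ext y
      have h1 := Set.ext_iff.1 hunion (V₀.ι y)
      have h2 : V₀.ι y ∈ (C : Set V) → V₀.ι y ∉ (C' : Set V) := fun a => Set.disjoint_left.1 hdisj a
      simp only [Set.mem_preimage, Set.mem_sdiff, Set.mem_union, Scheme.Hom.comp_apply] at h1 ⊢
      tauto
    rw [this]
    exact hcpt.diff (C'.isOpen.preimage V₀.ι.continuous)
  have ht₀ : (⟨t, htV₀⟩ : V₀) ∈ closure (V₀.ι ⁻¹' (C : Set V)) := by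
    rw [← V₀.ι.isOpenEmbedding.isOpenMap.preimage_closure_eq_closure_preimage V₀.ι.continuous]
    exact ht
  obtain ⟨_, ⟨c, hc, rfl⟩, hle⟩ := exists_le_of_mem_closure (hC₀.image h.continuous)
    (h.isOpenMap _ (C.isOpen.preimage V₀.ι.continuous))
    (h.image_closure _ ▸ ⟨_, ht₀, rfl⟩ : h (⟨t, htV₀⟩ : V₀) ∈ closure (h '' (V₀.ι ⁻¹' (C : Set V))))
  exact ⟨V₀.ι c, hc,
    (h.isInducing.specializes_iff.1 ((PrimeSpectrum.le_iff_specializes _ _).1 hle)).map V₀.ι.continuous⟩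

theorem hgen_of_finite_components (U : X.Opens)
    (hirr : ∀ W : X.Opens, IsCompact (W : Set X) → (irreducibleComponents ↥W).Finite)
    (V : Scheme.{u}) (r : V ⟶ X) (hr : Etale r) (C C' : V.Opens) (_ : C ⊔ C' = r ⁻¹ᵁ U) (_ : C ⊓ C' = ⊥)
    (t : V) (ht : t ∈ closure (C : Set V)) : ∃ c ∈ C, c ⤳ t := by
  haveI := hr
  obtain ⟨X₀, hX₀, hxX₀, -⟩ := exists_isAffineOpen_mem_and_subset (X := X) (x := r t) (U := ⊤) trivial
  obtain ⟨V₀, hV₀, htV₀, hV₀le⟩ := exists_isAffineOpen_mem_and_subset (X := V) (x := t) (U := r ⁻¹ᵁ X₀) hxX₀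
  haveI : IsAffine (X₀ : Scheme.{u}) := hX₀
  haveI : IsAffine (V₀ : Scheme.{u}) := hV₀
  let r₀ : (V₀ : Scheme.{u}) ⟶ X₀ := r.resLE X₀ V₀ hV₀le
  haveI : Etale (r₀ ≫ X₀.ι) := by rw [Scheme.Hom.resLE_comp_ι]; infer_instance
  haveI : Etale r₀ := Etale.of_comp r₀ X₀.ι
  let MX : Set (X₀ : Scheme.{u}) := {m | ∀ y, y ⤳ m → m ⤳ y}
  have hMX : MX.Finite := by
    refine Set.Finite.of_finite_image ?_ (f := fun m => closure {m}) fun a _ b _ hab => ?_
    · refine (hirr X₀ hX₀.isCompact).subset ?_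
      rintro _ ⟨m, hm, rfl⟩
      refine ⟨isIrreducible_singleton.closure, fun Z hZ hle => ?_⟩
      haveI : QuasiSober ↥X₀ := inferInstanceAs (QuasiSober (X₀ : Scheme.{u}))
      obtain ⟨g, hg⟩ := QuasiSober.sober hZ.closure isClosed_closure
      have hgm : g ⤳ m := hg.specializes (subset_closure (hle (subset_closure rfl)))
      have hmg : m ⤳ g := hm g hgm
      refine subset_closure.trans ?_
      rw [← hg.def]
      exact closure_minimal (Set.singleton_subset_iff.2 hmg.mem_closure) isClosed_closure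
    · exact ((specializes_iff_closure_subset.2 hab.ge).antisymm (specializes_iff_closure_subset.2 hab.le)).eq
  let MV : Set (V₀ : Scheme.{u}) := {m | ∀ y, y ⤳ m → m ⤳ y}
  have hMV : MV.Finite := by
    refine (hMX.biUnion fun a _ => r₀.finite_preimage_singleton a).subset fun m hm => ?_
    refine Set.mem_biUnion (x := r₀ m) (fun y hy => ?_) rfl
    obtain ⟨z, hz, rfl⟩ := Flat.generalizingMap r₀ hy
    exact (hm z hz).map r₀.continuous
  let C₀ : Set (V₀ : Scheme.{u}) := V₀.ι ⁻¹' (C : Set V)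
  let h : (V₀ : Scheme.{u}) ≃ₜ PrimeSpectrum Γ(V₀, ⊤) := Scheme.homeoOfIso (V₀ : Scheme.{u}).isoSpec
  have hsub : C₀ ⊆ ⋃ m ∈ MV ∩ C₀, closure {m} := by
    intro c hc
    obtain ⟨q, hq, hqc⟩ := Ideal.exists_minimalPrimes_le (J := (h c).asIdeal) bot_le
    obtain ⟨m, hm⟩ := h.surjective ⟨q, hq.1.1⟩
    have hmc : m ⤳ c := h.isInducing.specializes_iff.1 ((PrimeSpectrum.le_iff_specializes _ _).1 (le_of_eq_of_le hm hqc))
    have hmV : m ∈ MV := fun y hy => by
      have h1 : h y ≤ h m := (PrimeSpectrum.le_iff_specializes _ _).2 (hy.map h.continuous)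
      have h2 : h m ≤ h y := le_of_eq_of_le hm (hq.2 ⟨(h y).2, bot_le⟩ (le_of_le_of_eq h1 (congrArg PrimeSpectrum.asIdeal hm)))
      exact h.isInducing.specializes_iff.1 ((PrimeSpectrum.le_iff_specializes _ _).1 h2)
    exact Set.mem_biUnion (⟨hmV, (C.isOpen.preimage V₀.ι.continuous).stableUnderGeneralization hmc hc⟩ : m ∈ MV ∩ C₀)
      hmc.mem_closure
  have ht₀ : (⟨t, htV₀⟩ : V₀) ∈ closure C₀ := by
    rw [← V₀.ι.isOpenEmbedding.isOpenMap.preimage_closure_eq_closure_preimage V₀.ι.continuous]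
    exact ht
  have h2 := closure_minimal hsub ((hMV.inter_of_left C₀).isClosed_biUnion fun _ _ => isClosed_closure) ht₀
  simp only [Set.mem_iUnion] at h2
  obtain ⟨m, hm, hmt⟩ := h2
  exact ⟨V₀.ι m, hm.2, (specializes_iff_mem_closure.2 hmt).map V₀.ι.continuous⟩

end Groth.L27.PuncExtend
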