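import Groth.Agent.L27.PuncExtend.Ext
import Groth.Prelude.Def_FEt

/-! Restriction to an open where clopens extend is fully faithful. -/

set_option autoImplicit false
set_option linter.style.haveILetI false
set_option backward.isDefEq.respectTransparency.types false

universe u

open CategoryTheory CategoryTheory.Limits AlgebraicGeometry TopologicalSpace

namespace Groth.L27.PuncExtend

theorem restrict_fullyFaithful {X : Scheme.{u}} (U : X.Opens)
    (hdense : ∀ (R : Scheme.{u}) (r : R ⟶ X), Etale r → ∀ O : R.Opens, (O : Set R).Nonempty →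
      ∃ x ∈ O, r x ∈ U)
    (hext : ∀ (R : Scheme.{u}) (r : R ⟶ X), Etale r → ∀ C C' : R.Opens, C ⊔ C' = r ⁻¹ᵁ U → C ⊓ C' = ⊥ →
      ∃ D : Set R, IsClopen D ∧ D ∩ (r ⁻¹ᵁ U : Set R) = C) :
    (FEt.restrict U.ι).Full ∧ (FEt.restrict U.ι).Faithful := by
  have hU : ClopenExt U := ⟨hdense, fun R r _ hr => hext R r hr⟩
  refine ⟨⟨fun {V W} φ => ?_⟩, ⟨fun {V W} a b hab => ?_⟩⟩
  · let vh : V.left ⟶ X := V.hom
    let wh : W.left ⟶ X := W.hom
    haveI : Etale vh := V.prop.2
    haveI : IsFinite vh := V.prop.1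
    haveI : Etale wh := W.prop.2
    haveI : IsFinite wh := W.prop.1
    let O := vh ⁻¹ᵁ U
    let i : (O : Scheme.{u}) ⟶ pullback vh U.ι := pullback.lift O.ι (IsOpenImmersion.lift U.ι (O.ι ≫ vh) (by
        rw [Scheme.Opens.range_ι]; rintro _ ⟨z, rfl⟩; exact z.2))
      (IsOpenImmersion.lift_fac _ _ _).symm
    let φl : pullback vh U.ι ⟶ pullback wh U.ι := φ.left
    have hφ : φl ≫ pullback.snd wh U.ι = pullback.snd vh U.ι := MorphismProperty.Over.w φ
    have hi : i ≫ pullback.snd vh U.ι ≫ U.ι = O.ι ≫ vh := by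
      rw [← pullback.condition, ← Category.assoc, pullback.lift_fst]
    let g : (O : Scheme.{u}) ⟶ W.left := i ≫ φl ≫ pullback.fst wh U.ι
    have hg : g ≫ wh = O.ι ≫ vh := by
      rw [← hi]
      simp only [g, Category.assoc, pullback.condition]
      rw [← Category.assoc φl, hφ]
    let sec : (O : Scheme.{u}) ⟶ pullback wh vh := pullback.lift g O.ι hg
    obtain ⟨σ, hσ, hσO⟩ := exists_section_of_ext vh (pullback.snd wh vh) hdense
      (fun C C' => hext (pullback wh vh) (pullback.snd wh vh ≫ vh) inferInstance C C') sec (pullback.lift_snd _ _ _)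
    let ψ : V.left ⟶ W.left := σ ≫ pullback.fst wh vh
    have hψ : ψ ≫ wh = vh := by
      rw [Category.assoc, pullback.condition, ← Category.assoc, hσ, Category.id_comp]
    refine ⟨MorphismProperty.Over.homMk ψ hψ, ?_⟩
    apply MorphismProperty.Over.Hom.ext
    let j : pullback vh U.ι ⟶ O := IsOpenImmersion.lift O.ι (pullback.fst vh U.ι) (by
      rw [Scheme.Opens.range_ι]
      rintro _ ⟨z, rfl⟩
      show vh (pullback.fst vh U.ι z) ∈ U
      have : vh (pullback.fst vh U.ι z) = U.ι (pullback.snd vh U.ι z) :=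
        congrArg (fun k : pullback vh U.ι ⟶ X => k z) pullback.condition
      rw [this]; exact (pullback.snd vh U.ι z).2)
    have hj : j ≫ O.ι = pullback.fst vh U.ι := IsOpenImmersion.lift_fac _ _ _
    have hji : j ≫ i = 𝟙 _ := by
      apply pullback.hom_ext
      · rw [Category.assoc, pullback.lift_fst, hj, Category.id_comp]
      · rw [← cancel_mono U.ι, Category.assoc, Category.assoc, hi, ← Category.assoc, hj, pullback.condition]
        simp
    apply pullback.hom_ext
    · refine (pullback.lift_fst _ _ _).trans ?_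
      show pullback.fst vh U.ι ≫ ψ = φl ≫ pullback.fst wh U.ι
      rw [← hj, Category.assoc, ← Category.assoc O.ι, hσO, pullback.lift_fst]
      show j ≫ i ≫ φl ≫ pullback.fst wh U.ι = _
      rw [reassoc_of% hji]
    · exact (pullback.lift_snd _ _ _).trans hφ.symm
  · let vh : V.left ⟶ X := V.hom
    let wh : W.left ⟶ X := W.hom
    haveI : Etale vh := V.prop.2
    haveI : Etale wh := W.prop.2
    haveI : IsFinite wh := W.prop.1
    apply MorphismProperty.Over.Hom.ext
    refine hom_ext hU vh wh a.left b.left ((MorphismProperty.Over.w a).trans (MorphismProperty.Over.w b).symm) ?_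
    let O := vh ⁻¹ᵁ U
    let i : (O : Scheme.{u}) ⟶ pullback vh U.ι := pullback.lift O.ι (IsOpenImmersion.lift U.ι (O.ι ≫ vh) (by
        rw [Scheme.Opens.range_ι]; rintro _ ⟨z, rfl⟩; exact z.2))
      (IsOpenImmersion.lift_fac _ _ _).symm
    have h := congrArg (fun k : pullback vh U.ι ⟶ pullback wh U.ι => i ≫ k ≫ pullback.fst wh U.ι)
      (congrArg (fun k => k.left) hab)
    have e : ∀ c : V ⟶ W, i ≫ ((FEt.restrict U.ι).map c).left ≫ pullback.fst wh U.ι = O.ι ≫ c.left := fun c => by
      refine (congrArg (i ≫ ·) (pullback.lift_fst _ _ _)).trans ?_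
      exact ((Category.assoc _ _ _).symm.trans (congrArg (· ≫ c.left) (pullback.lift_fst _ _ _)))
    exact (e a).symm.trans (h.trans (e b))

end Groth.L27.PuncExtend
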