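import Groth.Agent.L27.PuncExtend.Ext
import Groth.Agent.L27.EtLocal.StrictHensel
import Groth.Agent.L05.Henselization.StrictUniq
import Groth.Agent.L21.Nodal.NodalLocus
import Groth.Prelude.Def_FEt
import Mathlib.RingTheory.Spectrum.Prime.Topology
import Mathlib.AlgebraicGeometry.Morphisms.Flat

/-! Clopens over a punctured spectrum extend when the strictly henselian punctured spectrum is connected. -/

set_option autoImplicit false
set_option linter.style.haveILetI false
set_option backward.isDefEq.respectTransparency.types false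

universe u

open CategoryTheory CategoryTheory.Limits AlgebraicGeometry TopologicalSpace IsLocalRing

namespace Groth.L27.PuncExtend

theorem exists_le_of_mem_closure {B : Type u} [CommRing B] {C : Set (PrimeSpectrum B)} (hc : IsCompact C)
    (ho : IsOpen C) {P : PrimeSpectrum B} (hP : P ∈ closure C) : ∃ c ∈ C, c ≤ P := by
  obtain ⟨s, rfl⟩ := PrimeSpectrum.isCompact_isOpen_iff.1 ⟨hc, ho⟩
  by_contra! h
  have hg : ∀ f : B, f ∈ s → ∃ g ∉ P.asIdeal, ∃ n : ℕ, g * f ^ n = 0 := by
    intro f hf
    have hn : IsNilpotent (algebraMap B (Localization.AtPrime P.asIdeal) f) := by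
      rw [nilpotent_iff_mem_prime]
      intro Q hQ
      by_contra hne
      refine h ⟨Q.comap (algebraMap B _), inferInstance⟩ ?_ ?_
      · intro hz
        exact hne (hz hf)
      · intro x hx
        by_contra hxP
        exact hQ.ne_top (Q.eq_top_of_isUnit_mem hx (IsLocalization.map_units _ (⟨x, hxP⟩ : P.asIdeal.primeCompl)))
    obtain ⟨n, hn⟩ := hn
    rw [← map_pow, IsLocalization.map_eq_zero_iff P.asIdeal.primeCompl] at hn
    obtain ⟨g, hg⟩ := hn
    exact ⟨g.1, g.2, n, hg⟩
  choose g hgP n hgn using hg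
  let G : B := ∏ f ∈ s.attach, g f.1 f.2
  have hG : G ∉ P.asIdeal := fun hG => by
    obtain ⟨f, -, hf⟩ := (Ideal.IsPrime.prod_mem_iff (hp := P.2)).1 hG
    exact hgP _ _ hf
  obtain ⟨x, hxG, hxs⟩ := mem_closure_iff.1 hP _ (PrimeSpectrum.basicOpen G).isOpen hG
  refine hxs fun f hf => ?_
  have h0 : G * f ^ n f hf = 0 := by
    obtain ⟨c, hc⟩ := Finset.dvd_prod_of_mem (fun a : s => g a.1 a.2) (Finset.mem_attach s ⟨f, hf⟩)
    have hc' : G = g f hf * c := hc
    rw [hc', mul_comm (g f hf), mul_assoc, hgn, mul_zero]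
  have hmem : G * f ^ n f hf ∈ x.asIdeal := h0 ▸ zero_mem _
  exact x.2.mem_of_pow_mem _ ((x.2.mem_or_mem hmem).resolve_left hxG)

variable {A : Type u} [CommRing A] [IsLocalRing A] (R : Type u) [CommRing R] [IsLocalRing R] [Algebra A R]
  [IsLocalHom (algebraMap A R)] [Hensel.IsStrictHenselization A R]

/-- the closed points of etale neighbourhoods are reached flatly from the strict henselization -/
theorem exists_flat_point {X : Scheme.{u}} [IsAffine X] (r : X ⟶ Spec (CommRingCat.of A)) [Etale r] (t : X)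
    (ht : r t = closedPoint A) :
    ∃ φ : Spec (CommRingCat.of R) ⟶ X, Flat φ ∧ φ ≫ r = Spec.map (CommRingCat.ofHom (algebraMap A R)) ∧
      φ (closedPoint R) = t := by
  let q := X.isoSpec.inv ≫ r
  let ρ := Spec.preimage q
  have hρ : Spec.map ρ = q := Spec.map_preimage _
  haveI : Etale q := inferInstance
  letI : Algebra A Γ(X, ⊤) := ρ.hom.toAlgebra
  haveI : Algebra.Etale A Γ(X, ⊤) :=
    (HasRingHomProperty.Spec_iff (P := @AlgebraicGeometry.Etale)).mp (show Etale (Spec.map ρ) by rw [hρ]; infer_instance)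
  let P : PrimeSpectrum Γ(X, ⊤) := X.isoSpec.hom t
  have hP : P.asIdeal.comap (algebraMap A Γ(X, ⊤)) = maximalIdeal A := by
    have h1 : Spec.map ρ (X.isoSpec.hom t) = closedPoint A := by
      rw [hρ, ← Scheme.Hom.comp_apply, X.isoSpec.hom_inv_id_assoc]
      exact ht
    exact congrArg PrimeSpectrum.asIdeal h1
  haveI : P.asIdeal.LiesOver (maximalIdeal A) := ⟨hP.symm⟩
  let K := ResidueField R
  haveI : IsSepClosed K := (inferInstance : Hensel.IsStrictHenselization A R).isSepClosure.sep_closed
  let j : (maximalIdeal A).ResidueField →+* K := Ideal.ResidueField.lift (maximalIdeal A) (algebraMap A K) (by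
    intro a ha
    rw [RingHom.mem_ker, IsScalarTower.algebraMap_apply A R K]
    exact (residue_eq_zero_iff _).2 (map_nonunit (algebraMap A R) a ha)) (by
    intro a ha
    rw [Submonoid.mem_comap, IsUnit.mem_submonoid_iff]
    exact ((IsLocalRing.notMem_maximalIdeal.1 ha).map _))
  letI : Algebra (maximalIdeal A).ResidueField K := j.toAlgebra
  haveI : IsScalarTower A (maximalIdeal A).ResidueField K := IsScalarTower.of_algebraMap_eq fun a => by
    simp [RingHom.algebraMap_toAlgebra, j]
  letI := Localization.AtPrime.algebraOfLiesOver (maximalIdeal A) P.asIdeal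
  haveI : Algebra.IsSeparable (maximalIdeal A).ResidueField P.asIdeal.ResidueField := inferInstance
  haveI : Algebra.IsAlgebraic (maximalIdeal A).ResidueField P.asIdeal.ResidueField := inferInstance
  let ω : P.asIdeal.ResidueField →ₐ[(maximalIdeal A).ResidueField] K := IsSepClosed.lift
  let ψ₀ : Γ(X, ⊤) →ₐ[A] K :=
    (ω.restrictScalars A).comp (IsScalarTower.toAlgHom A Γ(X, ⊤) P.asIdeal.ResidueField)
  obtain ⟨e⟩ := Groth.L05.Henselization.strictHenselization_algEquiv A R
  obtain ⟨Z, eZ, hZ⟩ := Groth.L05.Henselization.Obj.exists_obj Γ(X, ⊤) ψ₀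
  let ψ : Γ(X, ⊤) →ₐ[A] R := e.toAlgHom.comp ((Groth.L05.Henselization.ι Z).comp eZ.toAlgHom)
  have hker : ∀ x, ψ x ∈ maximalIdeal R ↔ x ∈ P.asIdeal := by
    intro x
    have h1 : IsUnit (ψ x) ↔ Groth.L05.Henselization.ε A K (Groth.L05.Henselization.ι Z (eZ x)) ≠ 0 :=
      (isUnit_map_iff e _).trans (Groth.L27.EtStrict.isUnit_iff A K)
    rw [mem_maximalIdeal, mem_nonunits_iff, h1, not_not, Groth.L05.Henselization.ε_ι]
    have h2 : Z.φ (eZ x) = ω (algebraMap Γ(X, ⊤) P.asIdeal.ResidueField x) := DFunLike.congr_fun hZ x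
    rw [h2]
    exact (map_eq_zero_iff _ ω.toRingHom.injective).trans Ideal.algebraMap_residueField_eq_zero
  let φ : Spec (CommRingCat.of R) ⟶ X := Spec.map (CommRingCat.ofHom ψ.toRingHom) ≫ X.isoSpec.inv
  have hφ : φ ≫ r = Spec.map (CommRingCat.ofHom (algebraMap A R)) := by
    show (Spec.map (CommRingCat.ofHom ψ.toRingHom) ≫ X.isoSpec.inv) ≫ r = _
    rw [Category.assoc, show X.isoSpec.inv ≫ r = Spec.map ρ from hρ.symm, ← Spec.map_comp]
    congr 1
    exact CommRingCat.hom_ext (RingHom.ext ψ.commutes)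
  haveI : Flat (φ ≫ r) := by
    rw [hφ]
    exact Flat.SpecMap_iff.2 (RingHom.flat_algebraMap_iff.2
      (Groth.L05.Henselization.flat_of_isStrictHenselization A R))
  refine ⟨φ, Groth.L21.Nodal.flat_of_comp_etale φ r, hφ, ?_⟩
  have h3 : Spec.map (CommRingCat.ofHom ψ.toRingHom) (closedPoint R) = X.isoSpec.hom t :=
    PrimeSpectrum.ext (Ideal.ext hker)
  show X.isoSpec.inv (Spec.map (CommRingCat.ofHom ψ.toRingHom) (closedPoint R)) = t
  rw [h3, ← Scheme.Hom.comp_apply, Iso.hom_inv_id]
  rfl

/-- extension of clopens from the punctured spectrum -/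
theorem clopenExt_punctured [CompactSpace (FEt.puncturedSpec A : Scheme.{u})]
    (hc : _root_.IsConnected (Spec.map (CommRingCat.ofHom (algebraMap A R)) ⁻¹' (FEt.puncturedSpec A : Set ↥(Spec (CommRingCat.of A))))) :
    ClopenExt (FEt.puncturedSpec A) := by
  let U := FEt.puncturedSpec A
  obtain ⟨z₀, hz₀⟩ := hc.1
  have hUc : IsCompact (U : Set ↥(Spec (CommRingCat.of A))) := isCompact_iff_compactSpace.2 (inferInstanceAs (CompactSpace (FEt.puncturedSpec A : Scheme.{u})))
  refine ⟨fun X r _ O hO => ?_, fun X r _ _ C C' hsup hinf => ?_⟩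
  · obtain ⟨x, hx⟩ := hO
    by_contra! h
    have hopen : IsOpen (r '' O) := (r.isOpenMap) _ O.isOpen
    have hx' : r x = closedPoint A := by
      by_contra hne
      exact h x hx hne
    obtain ⟨y, hy, hyu⟩ := hopen.stableUnderGeneralization (IsLocalRing.specializes_closedPoint _) (hx' ▸ ⟨x, hx, rfl⟩ :
      closedPoint A ∈ r '' O) (y := Spec.map (CommRingCat.ofHom (algebraMap A R)) z₀)
    exact h y hy (hyu ▸ hz₀)
  · have hdisj : Disjoint (C : Set X) C' := Set.disjoint_iff_inter_eq_empty.2 (congrArg (fun o : X.Opens => (o : Set X)) hinf)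
    have hunion : (C : Set X) ∪ C' = r ⁻¹' U := congrArg (fun o : X.Opens => (o : Set X)) hsup
    have hcpt : IsCompact (r ⁻¹' (U : Set ↥(Spec (CommRingCat.of A)))) := QuasiCompact.isCompact_preimage (f := r) _ U.isOpen hUc
    have hgen : ∀ D D' : X.Opens, (D : Set X) ∪ D' = r ⁻¹' U → Disjoint (D : Set X) D' → ∀ t ∈ closure (D : Set X),
        r t = closedPoint A → ∀ φ : Spec (CommRingCat.of R) ⟶ X, Flat φ →
          φ ≫ r = Spec.map (CommRingCat.ofHom (algebraMap A R)) → φ (closedPoint R) = t →
          (Spec.map (CommRingCat.ofHom (algebraMap A R)) ⁻¹' (U : Set ↥(Spec (CommRingCat.of A))) ∩ φ ⁻¹' D).Nonempty := by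
      intro D D' hu hd t ht _ φ hφf hφ hφt
      have hDc : IsCompact (D : Set X) := by
        have : (D : Set X) = r ⁻¹' U \ D' := by
          rw [← hu, Set.union_sdiff_right, hd.sdiff_eq_left]
        rw [this]
        exact hcpt.diff D'.isOpen
      let h : X ≃ₜ PrimeSpectrum Γ(X, ⊤) := Scheme.homeoOfIso X.isoSpec
      obtain ⟨c, hcD, hle⟩ := exists_le_of_mem_closure (C := h '' D) (P := h t)
        (hDc.image h.continuous) (h.isOpenMap _ D.isOpen) (h.image_closure _ ▸ ⟨t, ht, rfl⟩)
      obtain ⟨c, hc', rfl⟩ := hcD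
      have hs : c ⤳ φ (closedPoint R) := by
        rw [hφt]
        exact h.isInducing.specializes_iff.1 ((PrimeSpectrum.le_iff_specializes _ _).1 hle)
      obtain ⟨z, -, hz⟩ := Flat.generalizingMap φ hs
      refine ⟨z, ?_, ?_⟩
      · show Spec.map (CommRingCat.ofHom (algebraMap A R)) z ∈ U
        rw [← hφ, Scheme.Hom.comp_apply, hz]
        exact hu.le (Or.inl hc')
      · show φ z ∈ D
        rw [hz]; exact hc'
    refine ⟨closure (C : Set X), ⟨isClosed_closure, ?_⟩, ?_⟩
    · have hcompl : closure (C : Set X) = (closure (C' : Set X))ᶜ := by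
        refine Set.Subset.antisymm (fun t ht ht' => ?_) fun t ht => ?_
        · by_cases hrt : r t ∈ U
          · rcases (hunion.ge hrt : t ∈ (C : Set X) ∪ C') with h | h
            · obtain ⟨x, h1, h2⟩ := mem_closure_iff.1 ht' _ C.isOpen h
              exact Set.disjoint_left.1 hdisj h1 h2
            · obtain ⟨x, h1, h2⟩ := mem_closure_iff.1 ht _ C'.isOpen h
              exact Set.disjoint_left.1 hdisj h2 h1
          · have hrt' : r t = closedPoint A := not_not.1 hrt
            obtain ⟨φ, hφf, hφ, hφt⟩ := exists_flat_point R r t hrt'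
            have h1 := hgen C C' hunion hdisj t ht hrt' φ hφf hφ hφt
            have h2 := hgen C' C ((Set.union_comm _ _).trans hunion) hdisj.symm t ht' hrt' φ hφf hφ hφt
            obtain ⟨z, -, hz, hz'⟩ := hc.2 (φ ⁻¹' C) (φ ⁻¹' C') (C.isOpen.preimage φ.continuous)
              (C'.isOpen.preimage φ.continuous) (fun z hz => by
                have hmem : φ z ∈ r ⁻¹' (U : Set ↥(Spec (CommRingCat.of A))) := by
                  show r (φ z) ∈ U
                  rw [← Scheme.Hom.comp_apply, hφ]
                  exact hz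
                exact hunion.ge hmem) h1 h2
            exact Set.disjoint_left.1 hdisj hz hz'
        · by_contra h
          obtain ⟨x, hx, hxU⟩ : ∃ x ∈ ((closure (C : Set X) ∪ closure (C' : Set X))ᶜ), r x ∈ U := by
            have hne : ((⟨_, (isClosed_closure.union isClosed_closure).isOpen_compl⟩ : X.Opens) : Set X).Nonempty :=
              ⟨t, fun h' => h'.elim h ht⟩
            by_contra! hall
            obtain ⟨x₀, hx₀⟩ := hne
            have hopen : IsOpen (r '' (closure (C : Set X) ∪ closure (C' : Set X))ᶜ) :=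
              r.isOpenMap _ (isClosed_closure.union isClosed_closure).isOpen_compl
            have hx₀' : r x₀ = closedPoint A := not_not.1 (hall x₀ hx₀)
            obtain ⟨y, hy, hyu⟩ := hopen.stableUnderGeneralization (IsLocalRing.specializes_closedPoint _)
              (hx₀' ▸ ⟨x₀, hx₀, rfl⟩ : closedPoint A ∈ r '' _) (y := Spec.map (CommRingCat.ofHom (algebraMap A R)) z₀)
            exact hall y hy (hyu ▸ hz₀)
          rcases (hunion.ge hxU : x ∈ (C : Set X) ∪ C') with h' | h'
          · exact hx (Or.inl (subset_closure h'))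
          · exact hx (Or.inr (subset_closure h'))
      rw [hcompl]
      exact isClosed_closure.isOpen_compl
    · refine Set.Subset.antisymm (fun x hx => ?_) fun x hx => ⟨subset_closure hx, hunion.le (Or.inl hx)⟩
      rcases (hunion.ge hx.2 : x ∈ (C : Set X) ∪ C') with h | h
      · exact h
      · obtain ⟨y, h1, h2⟩ := mem_closure_iff.1 hx.1 _ C'.isOpen h
        exact (Set.disjoint_left.1 hdisj h2 h1).elim

end Groth.L27.PuncExtend
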