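import Groth.Agent.L27.PuncExtend.Ext
import Groth.Agent.L20.SchDesc.Affine
import Groth.Agent.L23.AffineMor
import Groth.Prelude.Def_FEt
import Mathlib.AlgebraicGeometry.Morphisms.FlatDescent
import Mathlib.AlgebraicGeometry.Morphisms.LocalFlatDescent
import Mathlib.AlgebraicGeometry.Sites.Fpqc

/-! A cover of an open which extends etale-locally extends. -/

set_option autoImplicit false
set_option linter.style.haveILetI false
set_option backward.isDefEq.respectTransparency.types false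

universe u

open CategoryTheory CategoryTheory.Limits AlgebraicGeometry TopologicalSpace

namespace Groth.L27.PuncExtend

open Groth.L20.SchDesc

theorem exists_extension {S : Scheme.{u}} [IsAffine S] {U : S.Opens} (hU : ClopenExt U) {X : Scheme.{u}}
    [IsAffine X] (p : X ⟶ S) [Etale p] [Surjective p] {W : Scheme.{u}} (f : W ⟶ X) [IsFinite f] [Etale f]
    {V₀ : Scheme.{u}} (a : V₀ ⟶ S) (ha : Set.range a ⊆ U) (m : pullback p a ⟶ W) [IsOpenImmersion m]
    (hmf : m ≫ f = pullback.fst p a) (hm : Set.range m = (f ≫ p) ⁻¹' U) :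
    ∃ (Y : Scheme.{u}) (y : Y ⟶ S) (ψ : V₀ ⟶ Y), IsFinite y ∧ Etale y ∧ IsOpenImmersion ψ ∧ ψ ≫ y = a ∧
      Set.range ψ = y ⁻¹' U := by
  haveI : IsAffine W := isAffine_of_isAffineHom f
  haveI : QuasiCompact p := inferInstance
  -- the action over `U`
  have hmp : m ≫ f ≫ p = pullback.snd p a ≫ a := by
    rw [← Category.assoc, hmf, pullback.condition]
  have hmem : ∀ {T : Scheme.{u}} (g : T ⟶ pullback p a) (t : T), p (f (m (g t))) ∈ U := fun g t => by
    have : (m ≫ f ≫ p) (g t) = (pullback.snd p a ≫ a) (g t) := congrArg (fun k => k (g t)) hmp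
    exact this ▸ ha ⟨_, rfl⟩
  let R2 := pullback (f ≫ p) p
  let f2 : R2 ⟶ W := pullback.fst _ _
  let x2 : R2 ⟶ X := pullback.snd _ _
  let r : R2 ⟶ S := f2 ≫ f ≫ p
  let O2 := r ⁻¹ᵁ U
  let iP : (O2 : Scheme.{u}) ⟶ pullback p a := IsOpenImmersion.lift m (O2.ι ≫ f2) (by
    rw [hm]
    rintro _ ⟨v, rfl⟩
    exact v.2)
  have hiP : iP ≫ m = O2.ι ≫ f2 := IsOpenImmersion.lift_fac _ _ _
  have hc2 : (O2.ι ≫ x2) ≫ p = (iP ≫ pullback.snd p a) ≫ a := by
    rw [Category.assoc, ← pullback.condition (f := f ≫ p) (g := p), Category.assoc, ← hmp, ← Category.assoc iP,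
      hiP, Category.assoc]
  let Θ₀ : (O2 : Scheme.{u}) ⟶ W := pullback.lift (O2.ι ≫ x2) (iP ≫ pullback.snd p a) hc2 ≫ m
  obtain ⟨Θ, hΘ, hΘ0⟩ := exists_hom hU r f x2 Θ₀ (by
    rw [Category.assoc, hmf, pullback.lift_fst])
  have act_m : ∀ {T : Scheme.{u}} (g : T ⟶ pullback p a) (x : T ⟶ X) (h : (g ≫ m) ≫ f ≫ p = x ≫ p)
      (h' : x ≫ p = (g ≫ pullback.snd p a) ≫ a),
      pullback.lift (g ≫ m) x h ≫ Θ = pullback.lift x (g ≫ pullback.snd p a) h' ≫ m := by
    intro T g x h h'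
    let l : T ⟶ R2 := pullback.lift (g ≫ m) x h
    have hl : Set.range l ⊆ Set.range O2.ι := by
      rw [Scheme.Opens.range_ι]
      rintro _ ⟨t, rfl⟩
      show p (f (f2 (l t))) ∈ U
      have : f2 (l t) = m (g t) := congrArg (fun k => k t) (pullback.lift_fst (g ≫ m) x h)
      rw [this]
      exact hmem g t
    let tO := IsOpenImmersion.lift O2.ι l hl
    have htO : tO ≫ O2.ι = l := IsOpenImmersion.lift_fac _ _ _
    have htP : tO ≫ iP = g := by
      rw [← cancel_mono m, Category.assoc, hiP, ← Category.assoc, htO]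
      exact pullback.lift_fst _ _ _
    show l ≫ Θ = _
    rw [← htO, Category.assoc, hΘ0]
    show tO ≫ pullback.lift (O2.ι ≫ x2) (iP ≫ pullback.snd p a) hc2 ≫ m = _
    rw [← Category.assoc]
    congr 1
    apply pullback.hom_ext
    · rw [Category.assoc, pullback.lift_fst, pullback.lift_fst, ← Category.assoc, htO]
      exact pullback.lift_snd _ _ _
    · rw [Category.assoc, pullback.lift_snd, pullback.lift_snd, ← Category.assoc, htP]
  let act : ∀ {T : Scheme.{u}} (v : T ⟶ W) (x : T ⟶ X), v ≫ f ≫ p = x ≫ p → (T ⟶ W) :=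
    fun v x h => pullback.lift v x h ≫ Θ
  have act_hom : ∀ {T : Scheme.{u}} (v : T ⟶ W) (x : T ⟶ X) (h : v ≫ f ≫ p = x ≫ p), act v x h ≫ f = x :=
    fun v x h => by rw [Category.assoc, hΘ, pullback.lift_snd]
  have act_nat : ∀ {T T' : Scheme.{u}} (g : T' ⟶ T) (v : T ⟶ W) (x : T ⟶ X) (h : v ≫ f ≫ p = x ≫ p)
      (v' : T' ⟶ W) (x' : T' ⟶ X) (h' : v' ≫ f ≫ p = x' ≫ p), g ≫ v = v' → g ≫ x = x' →
      act v' x' h' = g ≫ act v x h := by
    intro T T' g v x h v' x' h' hv hx
    show pullback.lift v' x' h' ≫ Θ = g ≫ pullback.lift v x h ≫ Θ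
    rw [← Category.assoc]
    congr 1
    apply pullback.hom_ext
    · rw [pullback.lift_fst, Category.assoc, pullback.lift_fst, hv]
    · rw [pullback.lift_snd, Category.assoc, pullback.lift_snd, hx]
  have act_self : ∀ {T : Scheme.{u}} (v : T ⟶ W) (h : v ≫ f ≫ p = (v ≫ f) ≫ p), act v (v ≫ f) h = v := by
    intro T v h
    rw [act_nat v (𝟙 W) f (Category.id_comp _) v (v ≫ f) h (Category.comp_id v) rfl]
    conv_rhs => rw [← Category.comp_id v]
    congr 1
    refine hom_ext hU (f ≫ p) f _ _ ((act_hom _ _ _).trans (Category.id_comp f).symm) ?_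
    let O := (f ≫ p) ⁻¹ᵁ U
    let gO : (O : Scheme.{u}) ⟶ pullback p a := IsOpenImmersion.lift m O.ι (by
      rw [hm, Scheme.Opens.range_ι]; rfl)
    have hgO : gO ≫ m = O.ι := IsOpenImmersion.lift_fac _ _ _
    have h1 : (gO ≫ m) ≫ f ≫ p = (O.ι ≫ f) ≫ p := by rw [hgO, Category.assoc]
    have h2 : (O.ι ≫ f) ≫ p = (gO ≫ pullback.snd p a) ≫ a := by rw [← h1, Category.assoc, hmp, Category.assoc]
    rw [← act_nat O.ι (𝟙 W) f (Category.id_comp _) (gO ≫ m) (O.ι ≫ f) h1
      (by rw [hgO, Category.comp_id]) rfl, Category.comp_id]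
    refine ((act_m gO (O.ι ≫ f) h1 h2).trans ?_).trans hgO
    congr 1
    apply pullback.hom_ext
    · rw [pullback.lift_fst, ← hmf, ← Category.assoc, hgO]
    · rw [pullback.lift_snd]
  have act_comp : ∀ {T : Scheme.{u}} (v : T ⟶ W) (x y : T ⟶ X) (h : v ≫ f ≫ p = x ≫ p)
      (h' : act v x h ≫ f ≫ p = y ≫ p) (h'' : v ≫ f ≫ p = y ≫ p),
      act (act v x h) y h' = act v y h'' := by
    intro T v x y h h' h''
    let R3 := pullback (x2 ≫ p) p
    let v3 : R3 ⟶ W := pullback.fst _ _ ≫ f2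
    let x3 : R3 ⟶ X := pullback.fst _ _ ≫ x2
    let y3 : R3 ⟶ X := pullback.snd _ _
    have e3 : v3 ≫ f ≫ p = x3 ≫ p := by
      simp only [v3, x3, f2, x2, Category.assoc]
      rw [pullback.condition]
    have e3' : v3 ≫ f ≫ p = y3 ≫ p := by
      rw [e3]
      exact (Category.assoc _ _ _).trans pullback.condition
    have e3'' : act v3 x3 e3 ≫ f ≫ p = y3 ≫ p := by
      rw [← Category.assoc, act_hom, ← e3', e3]
    have key : act (act v3 x3 e3) y3 e3'' = act v3 y3 e3' := by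
      let r3 : R3 ⟶ S := y3 ≫ p
      haveI : Etale r3 := inferInstance
      refine hom_ext hU r3 f _ _ ((act_hom _ _ _).trans (act_hom _ _ _).symm) ?_
      let O := r3 ⁻¹ᵁ U
      let g : (O : Scheme.{u}) ⟶ pullback p a := IsOpenImmersion.lift m (O.ι ≫ v3) (by
        rw [hm]
        rintro _ ⟨z, rfl⟩
        show p (f (v3 (O.ι z))) ∈ U
        have : (v3 ≫ f ≫ p) (O.ι z) = r3 (O.ι z) := congrArg (fun k => k (O.ι z)) e3'
        exact this ▸ z.2)
      have hg : g ≫ m = O.ι ≫ v3 := IsOpenImmersion.lift_fac _ _ _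
      have hgc : ∀ (w : R3 ⟶ X), v3 ≫ f ≫ p = w ≫ p → (O.ι ≫ w) ≫ p = (g ≫ pullback.snd p a) ≫ a := by
        intro w hw
        rw [Category.assoc, ← hw, ← Category.assoc, ← hg, Category.assoc, hmp, Category.assoc]
      have hgm : ∀ (w : R3 ⟶ X) (hw : v3 ≫ f ≫ p = w ≫ p), O.ι ≫ act v3 w hw =
          pullback.lift (O.ι ≫ w) (g ≫ pullback.snd p a) (hgc w hw) ≫ m := by
        intro w hw
        have hh : (g ≫ m) ≫ f ≫ p = (O.ι ≫ w) ≫ p := by rw [hg, Category.assoc, hw, Category.assoc]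
        rw [← act_m g (O.ι ≫ w) hh (hgc w hw)]
        exact (act_nat O.ι v3 w hw (g ≫ m) (O.ι ≫ w) hh hg.symm rfl).symm
      let g' : (O : Scheme.{u}) ⟶ pullback p a :=
        pullback.lift (O.ι ≫ x3) (g ≫ pullback.snd p a) (hgc x3 e3)
      have hh : (g' ≫ m) ≫ f ≫ p = (O.ι ≫ y3) ≫ p := by
        rw [← hgm x3 e3, Category.assoc, e3'', Category.assoc]
      have hsnd : g' ≫ pullback.snd p a = g ≫ pullback.snd p a := pullback.lift_snd _ _ _
      rw [hgm y3 e3', ← act_nat O.ι (act v3 x3 e3) y3 e3'' (g' ≫ m) (O.ι ≫ y3) hh (hgm x3 e3) rfl]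
      refine (act_m g' (O.ι ≫ y3) hh (by rw [hsnd]; exact hgc y3 e3')).trans ?_
      congr 1
      apply pullback.hom_ext
      · rw [pullback.lift_fst, pullback.lift_fst]
      · rw [pullback.lift_snd]; exact hsnd.trans (pullback.lift_snd _ _ _).symm
    let L : T ⟶ R3 := pullback.lift (pullback.lift v x h) y (by
      rw [← Category.assoc, pullback.lift_snd]
      exact h.symm.trans h'')
    have hv : L ≫ v3 = v :=
      (Category.assoc _ _ _).symm.trans ((congrArg (· ≫ f2) (pullback.lift_fst _ _ _)).trans (pullback.lift_fst _ _ _))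
    have hx : L ≫ x3 = x :=
      (Category.assoc _ _ _).symm.trans ((congrArg (· ≫ x2) (pullback.lift_fst _ _ _)).trans (pullback.lift_snd _ _ _))
    have hy : L ≫ y3 = y := pullback.lift_snd _ _ _
    rw [act_nat L v3 y3 e3' v y h'' hv hy,
      act_nat L (act v3 x3 e3) y3 e3'' (act v x h) y h' (act_nat L v3 x3 e3 v x h hv hx).symm hy, key]
  let P : Pre p f := ⟨act, act_hom, fun g v x h h' => act_nat g v x h _ _ h' rfl rfl, act_self, act_comp⟩
  obtain ⟨d⟩ := effective_of_affine P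
  -- the comparison with `V₀`
  let q : pullback p a ⟶ V₀ := pullback.snd p a
  haveI : Surjective q := inferInstance
  haveI : Flat q := inferInstance
  haveI : QuasiCompact q := inferInstance
  let χ : pullback p a ⟶ d.U := m ≫ d.q
  have hχ : ∀ {T : Scheme.{u}} (g₁ g₂ : T ⟶ pullback p a), g₁ ≫ q = g₂ ≫ q → g₁ ≫ χ = g₂ ≫ χ := by
    intro T g₁ g₂ e
    let x := g₂ ≫ m ≫ f
    have hb : (g₁ ≫ m) ≫ f ≫ p = x ≫ p := by
      simp only [x, Category.assoc, hmp]
      rw [← Category.assoc, ← Category.assoc, show g₁ ≫ pullback.snd p a = g₂ ≫ pullback.snd p a from e]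
    have hb' : x ≫ p = (g₁ ≫ pullback.snd p a) ≫ a := by rw [← hb, Category.assoc, hmp, Category.assoc]
    have hact : act (g₁ ≫ m) x hb = g₂ ≫ m := by
      refine (act_m g₁ x hb hb').trans ?_
      congr 1
      apply pullback.hom_ext
      · rw [pullback.lift_fst]; simp [x, hmf]
      · rw [pullback.lift_snd]; exact e
    have hcomm : act (g₁ ≫ m) x hb ≫ d.q = (g₁ ≫ m) ≫ d.q := d.comm _ _ hb
    rw [hact] at hcomm
    show g₁ ≫ m ≫ d.q = g₂ ≫ m ≫ d.q
    rw [← Category.assoc, ← hcomm, Category.assoc]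
  let ψ : V₀ ⟶ d.U := EffectiveEpi.desc q χ hχ
  have hψ : q ≫ ψ = χ := EffectiveEpi.fac q χ hχ
  have hψa : ψ ≫ d.a = a := by
    rw [← cancel_epi q, ← Category.assoc, hψ]
    show (m ≫ d.q) ≫ d.a = q ≫ a
    rw [Category.assoc, ← d.isPullback.w, hmp]
  have sq : IsPullback m q d.q ψ := by
    refine IsPullback.of_right (h₁₂ := f) (v₁₃ := p) (h₂₂ := d.a) ?_ hψ.symm d.isPullback
    rw [hmf, hψa]
    exact IsPullback.of_hasPullback p a
  have hp : (@Surjective ⊓ @Flat ⊓ @QuasiCompact : MorphismProperty Scheme.{u}) p :=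
    ⟨⟨inferInstance, inferInstance⟩, inferInstance⟩
  have hdq : (@Surjective ⊓ @Flat ⊓ @QuasiCompact : MorphismProperty Scheme.{u}) d.q :=
    MorphismProperty.of_isPullback d.isPullback hp
  haveI : Surjective d.q := hdq.1.1
  have hψo : IsOpenImmersion ψ :=
    MorphismProperty.of_isPullback_of_descendsAlong (P := @IsOpenImmersion) sq hdq inferInstance
  refine ⟨d.U, d.a, ψ,
    MorphismProperty.of_isPullback_of_descendsAlong (P := @IsFinite) d.isPullback hp inferInstance,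
    MorphismProperty.of_isPullback_of_descendsAlong (P := @Etale) d.isPullback hp inferInstance,
    hψo, hψa, ?_⟩
  refine Set.Subset.antisymm ?_ fun z hz => ?_
  · rintro _ ⟨v, rfl⟩
    have : (ψ ≫ d.a) v = a v := congrArg (fun k => k v) hψa
    show d.a (ψ v) ∈ U
    exact this ▸ ha ⟨v, rfl⟩
  · obtain ⟨w, rfl⟩ := d.q.surjective z
    have hw : w ∈ (f ≫ p) ⁻¹' (U : Set S) := by
      show p (f w) ∈ U
      have : (f ≫ p) w = (d.q ≫ d.a) w := congrArg (fun k => k w) d.isPullback.w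
      exact this ▸ hz
    rw [← hm] at hw
    obtain ⟨t, rfl⟩ := hw
    exact ⟨q t, congrArg (fun k => k t) sq.w.symm⟩

end Groth.L27.PuncExtend
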