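import Groth.Agent.L27.NormalSepClosed.FEt
import Mathlib.AlgebraicGeometry.Morphisms.Finite
import Mathlib.AlgebraicGeometry.Morphisms.Etale
import Mathlib.AlgebraicGeometry.Morphisms.FlatMono

/-! Extension of morphisms into finite etale covers across a part of the base. -/

set_option autoImplicit false
set_option linter.style.haveILetI false
set_option linter.unusedSectionVars false
set_option backward.isDefEq.respectTransparency.types false

universe u

open CategoryTheory CategoryTheory.Limits AlgebraicGeometry TopologicalSpace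

namespace Groth.L27.PuncExtend

/-- etale schemes over `S` see all clopens over `U` -/
structure ClopenExt {S : Scheme.{u}} (U : S.Opens) : Prop where
  dense : ∀ (R : Scheme.{u}) (r : R ⟶ S), Etale r → ∀ O : R.Opens, (O : Set R).Nonempty →
    ∃ x ∈ O, r x ∈ U
  ext : ∀ (R : Scheme.{u}) (r : R ⟶ S), IsAffine R → Etale r → ∀ C C' : R.Opens, C ⊔ C' = r ⁻¹ᵁ U →
    C ⊓ C' = ⊥ → ∃ D : Set R, IsClopen D ∧ D ∩ (r ⁻¹ᵁ U : Set R) = C

variable {S : Scheme.{u}} {U : S.Opens} (hU : ClopenExt U) {R W : Scheme.{u}} (r : R ⟶ S) [Etale r]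
  (w : W ⟶ R) [IsFinite w] [Etale w]

/-- sections of separated morphisms have closed range -/
theorem isClopen_range_section {X Y : Scheme.{u}} (f : Y ⟶ X) [IsSeparated f] [Etale f] (s : X ⟶ Y)
    (hs : s ≫ f = 𝟙 X) : IsClopen (Set.range s) ∧ IsOpenImmersion s := by
  haveI : IsClosedImmersion (s ≫ f) := by rw [hs]; infer_instance
  haveI : IsClosedImmersion s := IsClosedImmersion.of_comp s f
  haveI : Etale (s ≫ f) := by rw [hs]; infer_instance
  haveI : Etale s := Etale.of_comp s f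
  haveI : IsOpenImmersion s := IsOpenImmersion.of_flat_of_mono s
  exact ⟨⟨s.isClosedEmbedding.isClosed_range, s.isOpenEmbedding.isOpen_range⟩, inferInstance⟩

include hU in
/-- two sections agreeing over `U` agree -/
theorem section_ext (s₁ s₂ : R ⟶ W) (h₁ : s₁ ≫ w = 𝟙 R) (h₂ : s₂ ≫ w = 𝟙 R)
    (h : (r ⁻¹ᵁ U).ι ≫ s₁ = (r ⁻¹ᵁ U).ι ≫ s₂) : s₁ = s₂ := by
  obtain ⟨hc₁, hi₁⟩ := isClopen_range_section w s₁ h₁
  obtain ⟨hc₂, -⟩ := isClopen_range_section w s₂ h₂
  have key : ∀ (a b : R ⟶ W), a ≫ w = 𝟙 R → IsClopen (Set.range a) → IsClopen (Set.range b) →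
      ((r ⁻¹ᵁ U).ι ≫ a = (r ⁻¹ᵁ U).ι ≫ b) → Set.range a ⊆ Set.range b := by
    intro a b ha hca hcb hab y hy
    by_contra hyb
    obtain ⟨x, ⟨⟨v, rfl⟩, hxb⟩, hxU⟩ := hU.dense W (w ≫ r) inferInstance
      ⟨Set.range a ∩ (Set.range b)ᶜ, hca.2.inter hcb.1.isOpen_compl⟩ ⟨y, hy, hyb⟩
    have hv : v ∈ r ⁻¹ᵁ U := by
      show r v ∈ U
      have e1 : w (a v) = v := by rw [← Scheme.Hom.comp_apply, ha]; rfl
      rwa [Scheme.Hom.comp_apply, e1] at hxU
    exact hxb ⟨v, (congrArg (fun k => k ⟨v, hv⟩) hab).symm⟩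
  have hr : Set.range s₂ ⊆ Set.range s₁ := key s₂ s₁ h₂ hc₂ hc₁ h.symm
  have e : IsOpenImmersion.lift s₁ s₂ hr = 𝟙 R := by
    have h0 : IsOpenImmersion.lift s₁ s₂ hr ≫ s₁ ≫ w = s₂ ≫ w := by
      rw [← Category.assoc, IsOpenImmersion.lift_fac]
    rwa [h₁, h₂, Category.comp_id] at h0
  rw [← IsOpenImmersion.lift_fac s₁ s₂ hr, e, Category.id_comp]

omit hU in
/-- sections over `U` extend when clopens of the source do -/
theorem exists_section_of_ext
    (hdense : ∀ (R : Scheme.{u}) (r : R ⟶ S), Etale r → ∀ O : R.Opens, (O : Set R).Nonempty →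
      ∃ x ∈ O, r x ∈ U)
    (hext : ∀ C C' : W.Opens, C ⊔ C' = (w ≫ r) ⁻¹ᵁ U → C ⊓ C' = ⊥ →
      ∃ D : Set W, IsClopen D ∧ D ∩ ((w ≫ r) ⁻¹ᵁ U : Set W) = C)
    (s : (r ⁻¹ᵁ U : Scheme.{u}) ⟶ W) (hs : s ≫ w = (r ⁻¹ᵁ U).ι) :
    ∃ σ : R ⟶ W, σ ≫ w = 𝟙 R ∧ (r ⁻¹ᵁ U).ι ≫ σ = s := by
  let O := r ⁻¹ᵁ U
  let O' := w ⁻¹ᵁ O
  have hrange : Set.range s ⊆ O' := by
    rintro _ ⟨v, rfl⟩
    show w (s v) ∈ O
    rw [← Scheme.Hom.comp_apply, hs]
    exact v.2
  let s' : (O : Scheme.{u}) ⟶ O' := IsOpenImmersion.lift O'.ι s (by rwa [Scheme.Opens.range_ι])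
  have hs' : s' ≫ O'.ι = s := IsOpenImmersion.lift_fac _ _ _
  have hs'w : s' ≫ (w ∣_ O) = 𝟙 _ := by
    rw [← cancel_mono O.ι, Category.assoc, morphismRestrict_ι, ← Category.assoc, hs', hs, Category.id_comp]
  obtain ⟨hc, hi⟩ := isClopen_range_section (w ∣_ O) s' hs'w
  haveI := hi
  have hsopen : IsOpenImmersion s := hs' ▸ inferInstance
  have himg : Set.range s = O'.ι '' Set.range s' := by
    rw [← hs', ← Set.range_comp]; rfl
  let C : W.Opens := ⟨Set.range s, s.isOpenEmbedding.isOpen_range⟩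
  let C' : W.Opens := ⟨O'.ι '' (Set.range s')ᶜ, O'.ι.isOpenEmbedding.isOpenMap _ hc.1.isOpen_compl⟩
  obtain ⟨D, hD, hDC⟩ := hext C C'
    (by
      ext x
      refine ⟨?_, fun hx => ?_⟩
      · rintro (hx | ⟨v, -, rfl⟩)
        · exact hrange hx
        · exact v.2
      · by_cases hv : (⟨x, hx⟩ : O') ∈ Set.range s'
        · left
          show x ∈ Set.range s
          rw [himg]
          exact ⟨_, hv, rfl⟩
        · exact Or.inr ⟨_, hv, rfl⟩)
    (by
      ext x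
      refine ⟨?_, fun hx => hx.elim⟩
      rintro ⟨hx, v, hv, hvx⟩
      change x ∈ Set.range s at hx
      rw [himg] at hx
      obtain ⟨v', hv', h'⟩ := hx
      exact hv (O'.ι.isOpenEmbedding.injective (h'.trans hvx.symm) ▸ hv'))
  let Do : W.Opens := ⟨D, hD.2⟩
  haveI : IsClosedImmersion Do.ι := IsClosedImmersion.of_isPreimmersion Do.ι (by
    rw [Scheme.Opens.range_ι]; exact hD.1)
  let b := Do.ι ≫ w
  haveI : IsFinite b := inferInstance
  haveI : Etale b := inferInstance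
  let sD : (O : Scheme.{u}) ⟶ Do := IsOpenImmersion.lift Do.ι s (by
    rw [Scheme.Opens.range_ι]
    rintro _ ⟨v, rfl⟩
    exact (hDC.ge (⟨v, rfl⟩ : s v ∈ C)).1)
  have hsD : sD ≫ Do.ι = s := IsOpenImmersion.lift_fac _ _ _
  haveI : IsIso (pullback.snd b O.ι) := by
    let t : (O : Scheme.{u}) ⟶ pullback b O.ι := pullback.lift sD (𝟙 _) (by
      show sD ≫ Do.ι ≫ w = 𝟙 _ ≫ O.ι
      rw [← Category.assoc, hsD, hs, Category.id_comp])
    have ht : t ≫ pullback.snd b O.ι = 𝟙 _ := pullback.lift_snd _ _ _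
    obtain ⟨-, hio⟩ := isClopen_range_section (pullback.snd b O.ι) t ht
    haveI := hio
    haveI : Epi t.base := (TopCat.epi_iff_surjective _).2 fun z => by
      have hz : Do.ι (pullback.fst b O.ι z) ∈ D ∩ ((w ≫ r) ⁻¹ᵁ U : Set W) := by
        refine ⟨(pullback.fst b O.ι z).2, ?_⟩
        show r (w (Do.ι (pullback.fst b O.ι z))) ∈ U
        have e : w (Do.ι (pullback.fst b O.ι z)) = O.ι (pullback.snd b O.ι z) :=
          congrArg (fun k : pullback b O.ι ⟶ R => k z) pullback.condition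
        rw [e]
        exact (pullback.snd b O.ι z).2
      rw [hDC] at hz
      obtain ⟨v, hv⟩ := hz
      refine ⟨v, (pullback.fst b O.ι).isOpenEmbedding.injective ?_⟩
      apply Do.ι.isOpenEmbedding.injective
      have e2 : t ≫ pullback.fst b O.ι ≫ Do.ι = s := by
        rw [← Category.assoc, pullback.lift_fst, hsD]
      exact (congrArg (fun k => k v) e2).trans hv
    haveI : IsIso t := IsOpenImmersion.isIso t
    exact ⟨t, by rw [← cancel_epi t, ← Category.assoc, ht, Category.id_comp, Category.comp_id], ht⟩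
  haveI : IsIso b := NormalSepClosed.isIso_of_restrict b O.ι (fun Z z _ _ C hC hne => by
    obtain ⟨x, hx, hxU⟩ := hdense Z (z ≫ r) inferInstance ⟨C, hC.2⟩ hne
    exact ⟨x, hx, ⟨⟨z x, hxU⟩, rfl⟩⟩)
  refine ⟨inv b ≫ Do.ι, by rw [Category.assoc]; exact IsIso.inv_hom_id b, ?_⟩
  rw [← hsD, ← Category.assoc]
  congr 1
  rw [← cancel_mono b, Category.assoc, IsIso.inv_hom_id, Category.comp_id]
  show O.ι = sD ≫ Do.ι ≫ w
  rw [← Category.assoc, hsD, hs]

include hU in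
/-- sections over `U` extend -/
theorem exists_section [IsAffine R] (s : (r ⁻¹ᵁ U : Scheme.{u}) ⟶ W) (hs : s ≫ w = (r ⁻¹ᵁ U).ι) :
    ∃ σ : R ⟶ W, σ ≫ w = 𝟙 R ∧ (r ⁻¹ᵁ U).ι ≫ σ = s := by
  haveI : IsAffine W := isAffine_of_isAffineHom w
  exact exists_section_of_ext r w hU.dense (hU.ext W (w ≫ r) inferInstance inferInstance) s hs

variable {X : Scheme.{u}} (f : W ⟶ X) [IsFinite f] [Etale f]

omit w in
include hU in
/-- morphisms over `X` from `R` extend -/
theorem exists_hom [IsAffine R] (x : R ⟶ X) (g : (r ⁻¹ᵁ U : Scheme.{u}) ⟶ W)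
    (hg : g ≫ f = (r ⁻¹ᵁ U).ι ≫ x) : ∃ σ : R ⟶ W, σ ≫ f = x ∧ (r ⁻¹ᵁ U).ι ≫ σ = g := by
  obtain ⟨σ, hσ, hσU⟩ := exists_section hU r (pullback.snd f x) (pullback.lift g (r ⁻¹ᵁ U).ι hg)
    (pullback.lift_snd _ _ _)
  refine ⟨σ ≫ pullback.fst f x, ?_, ?_⟩
  · rw [Category.assoc, pullback.condition, ← Category.assoc, hσ, Category.id_comp]
  · rw [← Category.assoc, hσU, pullback.lift_fst]

omit w in
include hU in
theorem hom_ext (g₁ g₂ : R ⟶ W) (hf : g₁ ≫ f = g₂ ≫ f)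
    (h : (r ⁻¹ᵁ U).ι ≫ g₁ = (r ⁻¹ᵁ U).ι ≫ g₂) : g₁ = g₂ := by
  let x := g₂ ≫ f
  have key := section_ext hU r (pullback.snd f x) (pullback.lift g₁ (𝟙 R) (by rw [Category.id_comp]; exact hf))
    (pullback.lift g₂ (𝟙 R) (by rw [Category.id_comp])) (pullback.lift_snd _ _ _) (pullback.lift_snd _ _ _) (by
      apply pullback.hom_ext
      · rw [Category.assoc, Category.assoc, pullback.lift_fst, pullback.lift_fst, h]
      · rw [Category.assoc, Category.assoc, pullback.lift_snd, pullback.lift_snd])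
  exact ((pullback.lift_fst _ _ _).symm.trans (congrArg (· ≫ pullback.fst f x) key)).trans
    (pullback.lift_fst _ _ _)

end Groth.L27.PuncExtend
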