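import Mathlib.AlgebraicGeometry.Limits
import Mathlib.AlgebraicGeometry.Pullbacks
import Mathlib.CategoryTheory.Extensive

/-! Base change of trivial covers. -/

set_option autoImplicit false
set_option linter.style.haveILetI false
set_option backward.isDefEq.respectTransparency.types false

universe u

open CategoryTheory CategoryTheory.Limits AlgebraicGeometry

namespace Groth.L27.PuncExtend

theorem isPullback_fold {T S : Scheme.{u}} (h : T ⟶ S) (n : ℕ) :
    IsPullback (Limits.Sigma.map fun _ : Fin n => h) (Sigma.desc fun _ : Fin n => 𝟙 T)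
      (Sigma.desc fun _ : Fin n => 𝟙 S) h := by
  let F : (∐ fun _ : Fin n => S) ⟶ S := Sigma.desc fun _ => 𝟙 S
  let P := pullback F h
  let p₁ : P ⟶ ∐ fun _ : Fin n => S := pullback.fst _ _
  let π : (a : Fin n) → S ⟶ ∐ fun _ : Fin n => S := fun a => Sigma.ι (fun _ : Fin n => S) a
  haveI : IsIso (Sigma.desc π) := by
    have : Sigma.desc π = 𝟙 _ := Sigma.hom_ext _ _ fun a => by simp [π]
    rw [this]; infer_instance
  haveI := FinitaryPreExtensive.isIso_sigmaDesc_fst π p₁ inferInstance
  let d : (∐ fun a : Fin n => pullback p₁ (π a)) ⟶ P := Sigma.desc fun a => pullback.fst p₁ (π a)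
  haveI : IsIso d := by assumption
  let ρ : (∐ fun _ : Fin n => T) ⟶ P :=
    pullback.lift (Limits.Sigma.map fun _ : Fin n => h) (Sigma.desc fun _ : Fin n => 𝟙 T)
      (Sigma.hom_ext _ _ fun a => by simp [F])
  have ρ₁ : ρ ≫ pullback.fst F h = Limits.Sigma.map fun _ : Fin n => h := pullback.lift_fst _ _ _
  have ρ₂ : ρ ≫ pullback.snd F h = Sigma.desc fun _ : Fin n => 𝟙 T := pullback.lift_snd _ _ _
  let back : (∐ fun a : Fin n => pullback p₁ (π a)) ⟶ ∐ fun _ : Fin n => T :=
    Sigma.desc fun a => (pullback.fst p₁ (π a) ≫ pullback.snd F h) ≫ Sigma.ι (fun _ : Fin n => T) a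
  have hb : back ≫ ρ = d := by
    refine Sigma.hom_ext _ _ fun a => ?_
    simp only [back, d, Sigma.ι_desc, Sigma.ι_desc_assoc, Category.assoc]
    apply pullback.hom_ext
    · have hc : pullback.fst p₁ (π a) ≫ p₁ = pullback.snd p₁ (π a) ≫ π a := pullback.condition
      have hs : pullback.snd p₁ (π a) = pullback.fst p₁ (π a) ≫ pullback.snd F h ≫ h := by
        have := congrArg (· ≫ F) hc
        simp only [Category.assoc, π, F, Sigma.ι_desc, Category.comp_id] at this
        rw [← this]
        exact congrArg (_ ≫ ·) pullback.condition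
      simp only [Category.assoc, ρ₁, Sigma.ι_map]
      refine Eq.trans ?_ hc.symm
      rw [hs]
      simp [π]
    · simp only [Category.assoc, ρ₂, Sigma.ι_desc, Category.comp_id]
  haveI : IsIso ρ := by
    refine ⟨inv d ≫ back, Sigma.hom_ext _ _ fun a => ?_, by rw [Category.assoc, hb, IsIso.inv_hom_id]⟩
    let t : T ⟶ pullback p₁ (π a) :=
      pullback.lift (Sigma.ι (fun _ : Fin n => T) a ≫ ρ) h (by
        show (Sigma.ι (fun _ : Fin n => T) a ≫ ρ) ≫ pullback.fst F h = _
        rw [Category.assoc, ρ₁, Sigma.ι_map])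
    have ht : t ≫ Sigma.ι (fun a : Fin n => pullback p₁ (π a)) a ≫ d = Sigma.ι (fun _ : Fin n => T) a ≫ ρ := by
      simp only [d, Sigma.ι_desc]
      exact pullback.lift_fst _ _ _
    rw [Category.comp_id, ← Category.assoc, ← ht]
    simp only [Category.assoc, IsIso.hom_inv_id_assoc, back, Sigma.ι_desc]
    have ht2 : t ≫ pullback.fst p₁ (π a) ≫ pullback.snd F h = 𝟙 T := by
      rw [← Category.assoc, pullback.lift_fst, Category.assoc, ρ₂, Sigma.ι_desc]
    rw [reassoc_of% ht2]
  exact (IsPullback.of_hasPullback F h).of_iso (asIso ρ).symm (Iso.refl _) (Iso.refl _) (Iso.refl _)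
    (by rw [Iso.symm_hom, asIso_inv, IsIso.eq_inv_comp, ← Category.assoc]; simp [ρ₁]) (by rw [Iso.symm_hom, asIso_inv, IsIso.eq_inv_comp, ← Category.assoc]; simp [ρ₂]) (by simp [F]) (by simp)

end Groth.L27.PuncExtend
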