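import Groth.Agent.L27.PuncExtend.Ext
import Groth.Agent.L27.PuncExtend.Fold
import Groth.Agent.L27.StalkRpush.Main
import Groth.Agent.L27.FEtGal.SplitFinite
import Groth.Agent.L05.Henselization.StrictUniq
import Groth.Prelude.Def_Pi1
import Mathlib.AlgebraicGeometry.Morphisms.FlatRank
import Mathlib.AlgebraicGeometry.AffineTransitionLimit

/-! A cover split by the strictly henselian punctured spectrum is trivial on an etale neighbourhood. -/

set_option autoImplicit false
set_option linter.style.haveILetI false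
set_option backward.isDefEq.respectTransparency.types false

universe u

open CategoryTheory CategoryTheory.Limits AlgebraicGeometry TopologicalSpace IsLocalRing Opposite

namespace Groth.L27.PuncExtend

open Groth.L27.StalkRpush Groth.L05.Henselization

/-- where a finite etale map has rank one, maps lift uniquely -/
theorem lift_good {P Q : Scheme.{u}} (σ : Q ⟶ P) [IsFinite σ] [Etale σ] (G : P.Opens)
    (hG : ∀ v ∈ G, σ.finrank v = 1) :
    (∀ {T : Scheme.{u}} (g : T ⟶ P), Set.range g ⊆ G → ∃ l : T ⟶ Q, l ≫ σ = g) ∧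
    ∀ {T : Scheme.{u}} (a b : T ⟶ Q), a ≫ σ = b ≫ σ → Set.range (a ≫ σ) ⊆ G → a = b := by
  haveI : IsIso (σ ∣_ G) := by
    rw [Scheme.Hom.isIso_iff_finrank_eq]
    funext y
    exact (Scheme.Hom.finrank_of_isPullback _ _ _ _ (isPullback_morphismRestrict σ G).flip y).trans (hG _ y.2)
  refine ⟨fun {T} g hg => ?_, fun {T} a b hab ha => ?_⟩
  · refine ⟨IsOpenImmersion.lift G.ι g (by rwa [Scheme.Opens.range_ι]) ≫ inv (σ ∣_ G) ≫ (σ ⁻¹ᵁ G).ι, ?_⟩
    simp only [Category.assoc, ← morphismRestrict_ι, IsIso.inv_hom_id_assoc]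
    exact IsOpenImmersion.lift_fac _ _ _
  · have h1 : Set.range a ⊆ Set.range (σ ⁻¹ᵁ G).ι := by
      rw [Scheme.Opens.range_ι]; rintro _ ⟨t, rfl⟩; exact ha ⟨t, rfl⟩
    have h2 : Set.range b ⊆ Set.range (σ ⁻¹ᵁ G).ι := by
      rw [Scheme.Opens.range_ι]; rintro _ ⟨t, rfl⟩
      exact ha ⟨t, congrArg (fun k => k t) hab⟩
    rw [← IsOpenImmersion.lift_fac _ a h1, ← IsOpenImmersion.lift_fac _ b h2]
    congr 1
    rw [← cancel_mono (σ ∣_ G), ← cancel_mono G.ι]
    simp only [Category.assoc, morphismRestrict_ι, IsOpenImmersion.lift_fac_assoc]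
    exact hab

theorem exists_trivialising_nhd {A : Type u} [CommRing A] [IsLocalRing A] (R : Type u) [CommRing R] [IsLocalRing R]
    [Algebra A R] [IsLocalHom (algebraMap A R)] [Hensel.IsStrictHenselization A R]
    [CompactSpace (FEt.puncturedSpec A : Scheme.{u})] (hU : ClopenExt (FEt.puncturedSpec A))
    (hne : (Spec.map (CommRingCat.ofHom (algebraMap A R)) ⁻¹'
      (FEt.puncturedSpec A : Set ↥(Spec (CommRingCat.of A)))).Nonempty)
    (V : FEt.Cat (FEt.puncturedSpec A : Scheme.{u}))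
    (hV : Pi1.IsSplit ((FEt.restrict (pullback.fst (FEt.puncturedSpec A).ι
      (Spec.map (CommRingCat.ofHom (algebraMap A R))))).obj V)) :
    ∃ (X : Scheme.{u}) (p : X ⟶ Spec (CommRingCat.of A)) (W : Scheme.{u}) (f : W ⟶ X)
      (m : pullback p (V.hom ≫ (FEt.puncturedSpec A).ι) ⟶ W),
      IsAffine X ∧ Etale p ∧ Surjective p ∧ IsFinite f ∧ Etale f ∧ IsOpenImmersion m ∧
      m ≫ f = pullback.fst p _ ∧ Set.range m = (f ≫ p) ⁻¹' (FEt.puncturedSpec A : Set ↥(Spec (CommRingCat.of A))) := by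
  classical
  let U := FEt.puncturedSpec A
  let K := ResidueField R
  haveI : IsSepClosed K := (inferInstance : Hensel.IsStrictHenselization A R).isSepClosure.sep_closed
  obtain ⟨e⟩ := strictHenselization_algEquiv A R
  let j := 𝟙 (Spec (CommRingCat.of A))
  let q₀ : Spec (CommRingCat.of R) ⟶ Spec (CommRingCat.of A) := toBase A R ≫ j
  have hV' : Pi1.IsSplit ((FEt.restrict (pullback.fst U.ι q₀)).obj V) := by
    have hq : q₀ = Spec.map (CommRingCat.ofHom (algebraMap A R)) := Category.comp_id _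
    rw [hq]; exact hV
  obtain ⟨ι, hι, es, hes⟩ := hV'
  haveI := hι
  obtain ⟨n, ⟨eι⟩⟩ := Finite.exists_equiv_fin ι
  let vh : V.left ⟶ U := V.hom
  haveI : IsFinite vh := V.prop.1
  haveI : Etale vh := V.prop.2
  let pr : Xbar U.ι A j R ⟶ U := pullback.fst U.ι q₀
  let s : Fin n → (Xbar U.ι A j R ⟶ V.left) := fun a =>
    Sigma.ι (fun _ : ι => Xbar U.ι A j R) (eι.symm a) ≫ es.inv ≫ pullback.fst vh pr
  have hs : ∀ a, s a ≫ vh = pr := fun a =>
    (Category.assoc _ _ _).trans ((congrArg (Sigma.ι (fun _ : ι => Xbar U.ι A j R) (eι.symm a) ≫ ·)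
      ((Category.assoc _ _ _).trans ((congrArg (es.inv ≫ ·) pullback.condition).trans (Category.assoc _ _ _).symm))).trans
      ((Category.assoc _ _ _).symm.trans ((congrArg (· ≫ pr) (hes (eι.symm a))).trans (Category.id_comp pr))))
  -- stages
  let D := StalkRpush.D U.ι A j K
  haveI : ∀ {i k : Idx A K} (g : i ⟶ k), IsAffineHom (D.map g) := fun {i k} g => by
    let pi : (i : Idx A K) → (D.obj i ⟶ (U : Scheme.{u})) := fun i => ((EtCoh.bc U.ι).obj ((nb A j K).obj i)).hom
    have hpi : ∀ i : Idx A K, IsAffineHom (pi i) := fun i =>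
      MorphismProperty.pullback_snd (P := @IsAffineHom) _ _ (inferInstanceAs (IsAffineHom (toBase A i.unop.R ≫ j)))
    haveI := hpi i; haveI := hpi k
    have hw : D.map g ≫ pi k = pi i := MorphismProperty.Over.w ((EtCoh.bc U.ι).map ((nb A j K).map g))
    haveI : IsAffineHom (D.map g ≫ pi k) := hw ▸ inferInstance
    exact MorphismProperty.of_postcomp (W := @IsAffineHom) (W' := @IsSeparated) (D.map g) (pi k) inferInstance inferInstance
  haveI : ∀ i, CompactSpace (D.obj i) := fun i => by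
    haveI : IsAffineHom (toBase A i.unop.R ≫ j) := inferInstance
    exact inferInstanceAs (CompactSpace ↑(pullback (toBase A i.unop.R ≫ j) U.ι))
  haveI : ∀ i, QuasiSeparatedSpace (D.obj i) := fun i =>
    QuasiSeparatedSpace.of_isOpenEmbedding (pullback.fst (toBase A i.unop.R ≫ j) U.ι).isOpenEmbedding
  let hom : (i : Idx A K) → (D.obj i ⟶ (U : Scheme.{u})) := fun i => ((EtCoh.bc U.ι).obj ((nb A j K).obj i)).hom
  let t : D ⟶ (Functor.const _).obj (U : Scheme.{u}) :=
    { app := hom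
      naturality := fun i k g => (MorphismProperty.Over.w ((EtCoh.bc U.ι).map ((nb A j K).map g))).trans
        (Category.comp_id _).symm }
  have hstage : ∀ a, ∃ (i : Idx A K) (g : D.obj i ⟶ V.left),
      rr U.ι A j K R e i ≫ g = s a ∧ g ≫ vh = hom i := fun a =>
    Scheme.exists_π_app_comp_eq_of_locallyOfFinitePresentation D t vh (cone U.ι A j K R e)
      (isLimitCone U.ι A j K R e) (s a) (by
        ext i : 2
        exact (rr_hom U.ι A j K R e i).trans (hs a).symm)
  choose i g hg hgv using hstage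
  obtain ⟨k, hk⟩ := IsCofiltered.inf_objs_exists (Finset.univ.image i)
  let ga : ∀ a, k ⟶ i a := fun a => (hk (Finset.mem_image_of_mem i (Finset.mem_univ a))).some
  let X₀ := Spec (CommRingCat.of k.unop.R)
  let p₀ : X₀ ⟶ Spec (CommRingCat.of A) := toBase A k.unop.R ≫ j
  haveI : Etale p₀ := etale_str A j k.unop.R
  let DU : Scheme.{u} := pullback p₀ U.ι
  let ξ : DU ⟶ U := pullback.snd p₀ U.ι
  let gk : Fin n → (DU ⟶ V.left) := fun a => D.map (ga a) ≫ g a
  have hgk : ∀ a, gk a ≫ vh = ξ := fun a => by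
    exact (Category.assoc _ _ _).trans ((congrArg (D.map (ga a) ≫ ·) (hgv a)).trans
      (MorphismProperty.Over.w ((EtCoh.bc U.ι).map ((nb A j K).map (ga a)))))
  have hgks : ∀ a, rr U.ι A j K R e k ≫ gk a = s a := fun a => by
    exact (Category.assoc _ _ _).symm.trans ((congrArg (· ≫ g a) ((cone U.ι A j K R e).w (ga a))).trans (hg a))
  -- the comparison over the stage
  let PV := pullback vh ξ
  let foldU : (∐ fun _ : Fin n => DU) ⟶ DU := Sigma.desc fun _ => 𝟙 DU
  let σ : (∐ fun _ : Fin n => DU) ⟶ PV :=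
    Sigma.desc fun a => pullback.lift (gk a) (𝟙 DU) ((hgk a).trans (Category.id_comp _).symm)
  have hσ : σ ≫ pullback.snd vh ξ = foldU := Sigma.hom_ext _ _ fun a => by
    simp only [σ, foldU, Sigma.ι_desc_assoc, Sigma.ι_desc]
    exact pullback.lift_snd _ _ _
  haveI : IsFinite foldU := FEtGal.isFinite_foldId n
  haveI : Etale foldU := FEtGal.etale_foldId
  haveI : IsFinite (σ ≫ pullback.snd vh ξ) := hσ ▸ inferInstance
  haveI : Etale (σ ≫ pullback.snd vh ξ) := hσ ▸ inferInstance
  haveI : IsFinite σ := MorphismProperty.of_postcomp (W := @IsFinite) (W' := @IsSeparated) σ (pullback.snd vh ξ) inferInstance inferInstance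
  haveI : Etale σ := Etale.of_comp σ (pullback.snd vh ξ)
  let bad : Set PV := {v | σ.finrank v ≠ 1}
  have hbad : IsClopen bad := by
    have h := (Scheme.Hom.isLocallyConstant_finrank σ).isClopen_fiber 1
    exact ⟨h.2.isClosed_compl, h.1.isOpen_compl⟩
  let C : Set DU := pullback.snd vh ξ '' bad
  have hC : IsClopen C := ⟨(pullback.snd vh ξ).isClosedMap _ hbad.1, (pullback.snd vh ξ).isOpenMap _ hbad.2⟩
  -- no bad points in the limit
  let pl := pullback vh pr
  let σl : (∐ fun _ : Fin n => Xbar U.ι A j R) ⟶ pl :=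
    Sigma.desc (fun a => Sigma.ι (fun _ : ι => Xbar U.ι A j R) (eι.symm a)) ≫ es.inv
  have hperm : IsIso (Sigma.desc (fun a => Sigma.ι (fun _ : ι => Xbar U.ι A j R) (eι.symm a))) :=
    ⟨Sigma.desc fun b => Sigma.ι (fun _ : Fin n => Xbar U.ι A j R) (eι b),
      Sigma.hom_ext _ _ fun a => by
        rw [Sigma.ι_desc_assoc, Sigma.ι_desc, Category.comp_id]
        exact congrArg (Sigma.ι (fun _ : Fin n => Xbar U.ι A j R)) (eι.apply_symm_apply a),
      Sigma.hom_ext _ _ fun b => by
        rw [Sigma.ι_desc_assoc, Sigma.ι_desc, Category.comp_id]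
        exact congrArg (Sigma.ι (fun _ : ι => Xbar U.ι A j R)) (eι.symm_apply_apply b)⟩
  haveI : IsIso σl := inferInstance
  let rk : Xbar U.ι A j R ⟶ DU := rr U.ι A j K R e k
  have hrk : rk ≫ ξ = pr := rr_hom U.ι A j K R e k
  let gl : pl ⟶ PV := pullback.lift (pullback.fst vh pr) (pullback.snd vh pr ≫ rk)
    (by rw [Category.assoc, hrk]; exact pullback.condition)
  have sq1 : IsPullback gl (pullback.snd vh pr) (pullback.snd vh ξ) rk := by
    refine IsPullback.of_right ?_ (pullback.lift_snd _ _ _) (IsPullback.of_hasPullback vh ξ)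
    rw [pullback.lift_fst, hrk]
    exact IsPullback.of_hasPullback vh pr
  have hσl : σl ≫ pullback.snd vh pr = Sigma.desc fun _ : Fin n => 𝟙 _ := Sigma.hom_ext _ _ fun a => by
    simp only [σl, Category.assoc, Sigma.ι_desc, Sigma.ι_desc_assoc]
    exact hes (eι.symm a)
  have sq2 : IsPullback (Limits.Sigma.map fun _ : Fin n => rk) σl σ gl := by
    refine IsPullback.of_bot ?_ (Sigma.hom_ext _ _ fun a => ?_) sq1
    · rw [hσl, hσ]; exact isPullback_fold rk n
    · rw [Sigma.ι_map_assoc, Sigma.ι_desc]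
      apply pullback.hom_ext
      · simp only [Category.assoc, pullback.lift_fst, σl, Sigma.ι_desc_assoc, gl, rk]
        exact hgks a
      · have h2 : (Sigma.ι (fun _ : Fin n => Xbar U.ι A j R) a ≫ σl) ≫ pullback.snd vh pr = 𝟙 _ := by
          rw [Category.assoc, hσl, Sigma.ι_desc]
        simp only [Category.assoc, pullback.lift_snd, gl, Category.comp_id]
        exact ((Category.id_comp rk).symm.trans (congrArg (· ≫ rk) h2.symm)).trans (by simp only [Category.assoc])
  have hlim : ∀ z : Xbar U.ι A j R, rk z ∉ C := by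
    rintro z ⟨v, hv, hvz⟩
    obtain ⟨w, hw, -⟩ := Scheme.Pullback.exists_preimage_pullback (f := pullback.snd vh ξ) (g := rk) v z hvz
    let w' : pl := sq1.isoPullback.inv w
    have hw' : gl w' = v := (congrArg (fun k => k w) sq1.isoPullback_inv_fst).trans hw
    apply hv
    show σ.finrank v = 1
    rw [← hw', ← Scheme.Hom.finrank_of_isPullback _ _ _ _ sq2 w', Scheme.Hom.finrank_eq_one_of_isIso σl]
    rfl
  -- shrink the stage
  let f₀ : DU ⟶ X₀ := pullback.fst p₀ U.ι
  haveI : IsOpenImmersion f₀ := inferInstanceAs (IsOpenImmersion (pullback.fst p₀ U.ι))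
  have hrange : Set.range f₀ = p₀ ⁻¹' (U : Set ↥(Spec (CommRingCat.of A))) := by
    rw [show Set.range f₀ = Set.range (pullback.fst p₀ U.ι) from rfl, Scheme.Pullback.range_fst, Scheme.Opens.range_ι]
  obtain ⟨Dc, hDc, hDcU⟩ := hU.ext X₀ p₀ inferInstance inferInstance
    ⟨f₀ '' C, f₀.isOpenEmbedding.isOpenMap _ hC.2⟩ ⟨f₀ '' Cᶜ, f₀.isOpenEmbedding.isOpenMap _ hC.1.isOpen_compl⟩
    (by
      apply TopologicalSpace.Opens.ext
      show f₀ '' C ∪ f₀ '' Cᶜ = p₀ ⁻¹' (U : Set ↥(Spec (CommRingCat.of A)))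
      rw [← Set.image_union, Set.union_compl_self, Set.image_univ, hrange])
    (by
      apply TopologicalSpace.Opens.ext
      show f₀ '' C ∩ f₀ '' Cᶜ = ∅
      rw [← Set.image_inter f₀.isOpenEmbedding.injective, Set.inter_compl_self, Set.image_empty])
  let X : X₀.Opens := ⟨Dcᶜ, hDc.1.isOpen_compl⟩
  haveI : IsClosedImmersion X.ι := IsClosedImmersion.of_isPreimmersion X.ι (by
    rw [Scheme.Opens.range_ι]; exact hDc.2.isClosed_compl)
  haveI : IsAffine (X : Scheme.{u}) := isAffine_of_isAffineHom X.ι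
  let p : (X : Scheme.{u}) ⟶ Spec (CommRingCat.of A) := X.ι ≫ p₀
  let π₀ : Spec (CommRingCat.of R) ⟶ X₀ := (specCone A j K R e).π.app k
  have hrk₀ : rk ≫ f₀ = pullback.snd U.ι q₀ ≫ π₀ := rr_fst U.ι A j K R e k
  have ht0 : π₀ (closedPoint R) ∈ X := by
    intro hD
    have hall : ∀ z, π₀ z ∈ Dc := fun z => by
      have hop : IsOpen (π₀ ⁻¹' Dc) := hDc.2.preimage π₀.continuous
      exact hop.stableUnderGeneralization (IsLocalRing.specializes_closedPoint z) hD
    obtain ⟨z, hz⟩ := hne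
    obtain ⟨y, hy⟩ : z ∈ Set.range (pullback.snd U.ι q₀) := by
      rw [Scheme.Pullback.range_snd, Scheme.Opens.range_ι]
      show q₀ z ∈ U
      rw [show q₀ = Spec.map (CommRingCat.ofHom (algebraMap A R)) from Category.comp_id _]
      exact hz
    have h1 : f₀ (rk y) = π₀ z := by
      rw [← Scheme.Hom.comp_apply, hrk₀, Scheme.Hom.comp_apply, hy]
    have h2 : f₀ (rk y) ∈ Dc ∩ p₀ ⁻¹' (U : Set ↥(Spec (CommRingCat.of A))) :=
      ⟨h1 ▸ hall z, hrange.le ⟨_, rfl⟩⟩
    obtain ⟨c, hc, hc'⟩ := hDcU.le h2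
    exact hlim y (f₀.isOpenEmbedding.injective hc' ▸ hc)
  have hπp : p₀ (π₀ (closedPoint R)) = closedPoint A := by
    have h := map_toBase A (toR A K R e k)
    have h' : (π₀ ≫ p₀) = q₀ := by
      show Spec.map _ ≫ toBase A k.unop.R ≫ j = toBase A R ≫ j
      rw [← Category.assoc, h]
    rw [← Scheme.Hom.comp_apply, h', show q₀ = Spec.map (CommRingCat.ofHom (algebraMap A R)) from Category.comp_id _]
    exact IsLocalRing.comap_closedPoint (algebraMap A R)
  have hpsurj : Surjective p := ⟨fun x =>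
    p.isOpenMap.isOpen_range.stableUnderGeneralization (IsLocalRing.specializes_closedPoint x)
      ⟨⟨π₀ (closedPoint R), ht0⟩, hπp⟩⟩
  -- the trivial cover and the comparison
  let foldX : (∐ fun _ : Fin n => (X : Scheme.{u})) ⟶ X := Sigma.desc fun _ => 𝟙 _
  haveI : IsFinite foldX := FEtGal.isFinite_foldId n
  haveI : Etale foldX := FEtGal.etale_foldId
  let G : PV.Opens := ⟨badᶜ, hbad.1.isOpen_compl⟩
  obtain ⟨hlift, huniq⟩ := lift_good σ G fun v hv => not_not.1 hv
  let a := V.hom ≫ U.ι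
  let Q := pullback p a
  have hcond : (pullback.fst p a ≫ X.ι) ≫ p₀ = (pullback.snd p a ≫ vh) ≫ U.ι := by
    rw [Category.assoc, Category.assoc]; exact pullback.condition
  let qd : Q ⟶ DU := pullback.lift (pullback.fst p a ≫ X.ι) (pullback.snd p a ≫ vh) hcond
  let g₂ : Q ⟶ PV := pullback.lift (pullback.snd p a) qd (pullback.lift_snd _ _ hcond).symm
  have hg₂ : Set.range g₂ ⊆ G := by
    rintro _ ⟨z, rfl⟩ hb
    have h1 : qd z ∈ C := ⟨_, hb, congrArg (fun k : Q ⟶ DU => k z) (pullback.lift_snd _ _ _ : g₂ ≫ pullback.snd vh ξ = qd)⟩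
    have h2 : f₀ (qd z) ∈ Dc := (hDcU.ge ⟨_, h1, rfl⟩).1
    have h3 : f₀ (qd z) = X.ι (pullback.fst p a z) := congrArg (fun k : Q ⟶ X₀ => k z) (pullback.lift_fst _ _ hcond : qd ≫ f₀ = pullback.fst p a ≫ X.ι)
    rw [h3] at h2
    exact (pullback.fst p a z).2 h2
  obtain ⟨l, hl⟩ := hlift g₂ hg₂
  have sqX := isPullback_fold X.ι n
  have sqU := isPullback_fold f₀ n
  have hlf : l ≫ foldU = qd := by rw [← hσ, ← Category.assoc, hl]; exact pullback.lift_snd _ _ _
  let mW : Q ⟶ ∐ fun _ : Fin n => (X : Scheme.{u}) :=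
    sqX.lift (l ≫ Limits.Sigma.map fun _ : Fin n => f₀) (pullback.fst p a) (by
      rw [Category.assoc, sqU.w, ← Category.assoc, hlf]
      exact pullback.lift_fst _ _ _)
  have hmW₁ : mW ≫ Limits.Sigma.map (fun _ : Fin n => X.ι) = l ≫ Limits.Sigma.map (fun _ : Fin n => f₀) := sqX.lift_fst _ _ _
  have hmW₂ : mW ≫ foldX = pullback.fst p a := sqX.lift_snd _ _ _
  let O := (foldX ≫ p) ⁻¹ᵁ U
  have hmr : Set.range mW ⊆ O := by
    rintro _ ⟨z, rfl⟩
    show p (foldX (mW z)) ∈ U
    have h1 : (mW ≫ foldX ≫ p) z = (pullback.snd p a ≫ vh ≫ U.ι) z := by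
      rw [← Category.assoc, hmW₂]; exact congrArg (fun k : Q ⟶ _ => k z) pullback.condition
    exact h1 ▸ ((pullback.snd p a ≫ vh) z).2
  let m' : Q ⟶ O := IsOpenImmersion.lift O.ι mW (by rwa [Scheme.Opens.range_ι])
  have hm' : m' ≫ O.ι = mW := IsOpenImmersion.lift_fac _ _ _
  let w : (O : Scheme.{u}) ⟶ U := IsOpenImmersion.lift U.ι (O.ι ≫ foldX ≫ p) (by
    rw [Scheme.Opens.range_ι]; rintro _ ⟨z, rfl⟩; exact z.2)
  have hw : w ≫ U.ι = O.ι ≫ foldX ≫ p := IsOpenImmersion.lift_fac _ _ _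
  have hdc : (O.ι ≫ foldX ≫ X.ι) ≫ p₀ = w ≫ U.ι := by rw [hw]; simp only [Category.assoc, p]
  let d : (O : Scheme.{u}) ⟶ DU := pullback.lift (O.ι ≫ foldX ≫ X.ι) w hdc
  let lo : (O : Scheme.{u}) ⟶ ∐ fun _ : Fin n => DU :=
    sqU.lift (O.ι ≫ Limits.Sigma.map fun _ : Fin n => X.ι) d (by
      rw [Category.assoc, sqX.w]; exact (pullback.lift_fst _ _ hdc).symm)
  have hlo₁ : lo ≫ Limits.Sigma.map (fun _ : Fin n => f₀) = O.ι ≫ Limits.Sigma.map (fun _ : Fin n => X.ι) := sqU.lift_fst _ _ _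
  have hlo₂ : lo ≫ foldU = d := sqU.lift_snd _ _ _
  let vO : (O : Scheme.{u}) ⟶ V.left := lo ≫ σ ≫ pullback.fst vh ξ
  have hvO : vO ≫ vh = w := by
    have h1 : vO ≫ vh = lo ≫ (σ ≫ pullback.snd vh ξ) ≫ ξ := by
      simp only [vO, Category.assoc, pullback.condition]
    rw [h1, hσ, ← Category.assoc, hlo₂]
    exact pullback.lift_snd _ _ _
  let kO : (O : Scheme.{u}) ⟶ Q := pullback.lift (O.ι ≫ foldX) vO (by
    rw [Category.assoc, ← hw, ← hvO, Category.assoc])
  have e₁ : m' ≫ kO = 𝟙 Q := by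
    apply pullback.hom_ext
    · rw [Category.assoc, pullback.lift_fst, ← Category.assoc, hm', hmW₂, Category.id_comp]
    · rw [Category.assoc, pullback.lift_snd, Category.id_comp]
      have h1 : m' ≫ lo = l := by
        apply sqU.hom_ext
        · rw [Category.assoc, hlo₁, ← Category.assoc, hm', hmW₁]
        · rw [Category.assoc, hlo₂]
          show m' ≫ d = l ≫ foldU
          rw [hlf]
          apply pullback.hom_ext
          · rw [Category.assoc, pullback.lift_fst]
            refine Eq.trans ?_ (pullback.lift_fst _ _ hcond).symm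
            rw [← Category.assoc, hm', ← Category.assoc, hmW₂]
          · rw [Category.assoc, pullback.lift_snd]
            refine Eq.trans ?_ (pullback.lift_snd _ _ hcond).symm
            rw [← cancel_mono U.ι, Category.assoc, hw, ← Category.assoc, hm', ← Category.assoc, hmW₂,
              pullback.condition, Category.assoc]
      show m' ≫ lo ≫ σ ≫ pullback.fst vh ξ = _
      rw [← Category.assoc, h1, ← Category.assoc, hl]
      exact pullback.lift_fst _ _ _
  have e₂ : kO ≫ m' = 𝟙 _ := by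
    rw [← cancel_mono O.ι, Category.assoc, hm', Category.id_comp]
    apply sqX.hom_ext
    · rw [Category.assoc, hmW₁, ← hlo₁, ← Category.assoc]
      congr 1
      have hσeq : lo ≫ σ = (kO ≫ l) ≫ σ := by
        rw [Category.assoc, hl]
        apply pullback.hom_ext
        · simp only [Category.assoc, g₂, pullback.lift_fst, kO, pullback.lift_snd, vO]
        · rw [Category.assoc, hσ, hlo₂, Category.assoc, pullback.lift_snd]
          apply pullback.hom_ext
          · rw [Category.assoc, pullback.lift_fst, pullback.lift_fst, ← Category.assoc kO, pullback.lift_fst, Category.assoc]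
          · rw [Category.assoc, pullback.lift_snd, pullback.lift_snd, ← Category.assoc kO, pullback.lift_snd, hvO]
      refine (huniq _ _ hσeq ?_).symm
      rw [hσeq, Category.assoc, hl]
      rintro _ ⟨z, rfl⟩
      exact hg₂ ⟨_, rfl⟩
    · rw [Category.assoc, hmW₂, pullback.lift_fst]
  haveI : IsIso m' := ⟨kO, e₁, e₂⟩
  refine ⟨X, p, _, foldX, mW, inferInstance, inferInstance, hpsurj, inferInstance, inferInstance,
    hm' ▸ inferInstance, hmW₂, ?_⟩
  show Set.range mW = (O : Set _)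
  rw [← hm', Scheme.Hom.comp_base, TopCat.coe_comp, Set.range_comp, Set.range_eq_univ.2 m'.surjective,
    Set.image_univ, Scheme.Opens.range_ι]

end Groth.L27.PuncExtend
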